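import Cfsg.Agent.M12S.A0

/-! Finite checks for the reduction. -/

set_option autoImplicit false
set_option maxRecDepth 100000
set_option maxHeartbeats 0
set_option Elab.async false
set_option synthInstance.maxSize 4000
set_option synthInstance.maxHeartbeats 400000

namespace CF.M12S.R

open CF.Perm.SS CF.Comp CF.W2 CF.Yo CF.Yc

noncomputable def CY : List AM := [1, yA, yA * yA, yA * yA * yA, yA * yA * yA * yA].flatMap fun a =>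
  [a, a * jZ ιA, a * jZ oA, a * (jZ ιA * jZ oA)]
noncomputable def ra_0 : AM := mkAM [5, 0, 8, 2, 6, 1, 10, 9, 3, 11, 4, 7, 20, 16, 23, 14, 18, 12, 13, 22, 17, 19, 21, 15]
noncomputable def ra_1 : AM := mkAM [6, 0, 11, 2, 1, 4, 5, 7, 9, 3, 10, 8, 23, 21, 17, 15, 22, 12, 13, 19, 14, 16, 18, 20]
noncomputable def rm_0 : MM := mkMM [5, 0, 8, 2, 6, 1, 10, 9, 3, 11, 4, 7]
noncomputable def rm_1 : MM := mkMM [6, 0, 11, 2, 1, 4, 5, 7, 9, 3, 10, 8]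
noncomputable def rz_0 : MZ := mkMZ [1, 0, 3, 2, 5, 4, 10, 11, 9, 8, 6, 7]
noncomputable def rz_1 : MZ := mkMZ [0, 1, 2, 3, 5, 6, 10, 9, 11, 8, 4, 7]
noncomputable def rz_2 : MZ := mkMZ [1, 0, 2, 3, 4, 8, 6, 10, 5, 11, 7, 9]
noncomputable def rz_3 : MZ := mkMZ [2, 0, 1, 3, 4, 9, 6, 5, 10, 7, 11, 8]
noncomputable def rz_4 : MZ := mkMZ [0, 2, 3, 1, 4, 11, 6, 10, 5, 7, 9, 8]
noncomputable def rz_5 : MZ := mkMZ [0, 2, 3, 1, 5, 7, 10, 4, 6, 9, 8, 11]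
noncomputable def rz_6 : MZ := mkMZ [0, 2, 3, 1, 8, 5, 7, 11, 9, 4, 10, 6]
noncomputable def rm_2 : MM := mkMM [5, 10, 7, 8, 4, 2, 6, 1, 0, 11, 3, 9]
noncomputable def ra_2 : AM := mkAM [0, 1, 4, 6, 2, 5, 3, 10, 8, 11, 7, 9, 23, 18, 17, 15, 16, 14, 13, 20, 19, 21, 22, 12]
theorem cenY : ∀ x : AM, (∀ u ∈ [yA], x * u = u * x) → x ∈ CY :=
  TAM_tr.cen _ [[], [], [(0, [(5, 6)])], [(0, [(4, 10), (10, 5)])], [(0, [(0, 0), (1, 4), (2, 2), (3, 9), (6, 1), (7, 8), (8, 11), (9, 7), (11, 3), (12, 12), (13, 13), (14, 15), (15, 20), (16, 21), (17, 14), (18, 22), (19, 16), (20, 23), (21, 18), (22, 19), (23, 17)])]] (by decide +kernel)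

theorem fY1 : ∀ x ∈ CY, ∀ e ∈ CY, x * (jZ wA * e) = jZ wA * e * x → x = 1 ∨ x = jZ ιA :=
  by decide +kernel

theorem fY2 : ∀ x ∈ CY, x * x * (x * x) = 1 → x * x = 1 ∧ x ∈ [1, jZ ιA, jZ oA, jZ ιA * jZ oA] :=
  by decide +kernel

theorem fY3 : ∀ x ∈ CY, x * x * x * x * x = 1 → x = 1 ∨
    ∃ b ∈ [1, jZ wA, jZ wA * jZ wA, (jZ wA)⁻¹], b * x * b⁻¹ = yA :=
  by decide +kernel

theorem fZ2 : ∀ x : AZ, x * x = 1 → x = 1 ∨ ∃ b : AZ, b * x * b⁻¹ ∈ [zA, ιA, oA, vA, sA] :=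
  by decide +kernel

theorem fZ5 : ∀ x : AZ, x * zA = zA * x ∧ (x * x * x * x * x = 1 → x = 1) :=
  by decide +kernel

theorem fZρ : ∀ r : AZ, r * r * r = 1 → r = 1 ∨ ∀ x : AZ, x * r = r * x → x = 1 ∨ x = zA ∨
    x * x ≠ 1 ∧ ∀ σ : AZ, σ * r = r⁻¹ * σ → x * σ ≠ σ * x :=
  by decide +kernel

theorem fY4 : ∀ d ∈ [jZ oA, jZ ιA * jZ oA], jZ wA * d * (jZ wA)⁻¹ = jZ ιA * d ∧ d * jZ ιA = jZ ιA * d ∧
    ∀ c ∈ [1, jZ ιA, jZ oA, jZ ιA * jZ oA], c * jZ ιA = jZ ιA * c ∧ (c = 1 ∨ c * d = 1 ∨ c * jZ ιA = 1 ∨ c * d * jZ ιA = 1) :=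
  by decide +kernel

theorem fvs : cA⁻¹ * jZ vA * cA⁻¹⁻¹ = jZ zA ∧ ra_2 * jZ sA * ra_2⁻¹ = jZ zA :=
  by decide +kernel

theorem fz : ∃ g h : MM, ∃ g' h' : AM, agr g' g = true ∧ agr h' h = true ∧ (∀ a ∈ [jZ ιA, jZ oA], a * g' = g' * a ∧ a * h' = h' * a) ∧
    g * yM * g⁻¹ * (h * (yM * yM) * h⁻¹) = iZ zZ :=
  ⟨rm_0, rm_1, ra_0, ra_1, by decide +kernel⟩

theorem fc1 : ∃ a b c, iZ a * yM * iZ b * yM * iZ c = cM :=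
  ⟨1, rz_0, rz_1, by decide +kernel⟩

theorem fc2 : ∃ a b m, m * iZ vZ = iZ vZ * m ∧ iZ a * m * iZ b = cM :=
  ⟨rz_1, rz_2, rm_2, by decide +kernel⟩

theorem fv : ∃ b, ρZ * (b * ρZ * b⁻¹)⁻¹ = vZ :=
  ⟨rz_3, by decide +kernel⟩

theorem fz3 : ∃ a b c, a * a * a = 1 ∧ b * b * b = 1 ∧ c * c * c = 1 ∧ a * b * c = zZ :=
  ⟨rz_4, rz_5, rz_6, by decide +kernel⟩

theorem fMZ : ∀ a : MZ, a * zZ = zZ * a :=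
  by decide +kernel

theorem relM : zZ * zZ = 1 ∧ zZ ≠ 1 ∧ vZ * vZ = 1 ∧ vZ ≠ 1 ∧ ιZ * ιZ = 1 ∧ ιZ ≠ 1 ∧ ρZ * ρZ * ρZ = 1 ∧ sZ * ρZ * sZ⁻¹ = ρZ⁻¹ ∧
    yM * yM * yM * yM * yM = 1 ∧ wM * yM * wM⁻¹ = yM * yM :=
  by decide +kernel

theorem relY : jZ wA * yA * (jZ wA)⁻¹ = yA * yA ∧ yA * yA * yA * yA * yA = 1 ∧ yA ≠ 1 ∧ jZ ιA * yA = yA * jZ ιA ∧
    jZ oA * yA = yA * jZ oA ∧ jZ ιA * jZ wA = jZ wA * jZ ιA ∧ jZ φA * jZ ρA = jZ ρA * jZ φA ∧ jZ ιA ≠ 1 ∧ jZ zA ≠ 1 ∧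
    jZ zA * jZ zA = 1 ∧ jZ ιA * jZ ιA = 1 ∧ jZ φA * jZ φA = jZ zA ∧ jZ oA * jZ oA = 1 :=
  by decide +kernel

end CF.M12S.R
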