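import Cfsg.Agent.M12S.SL0
import Cfsg.Agent.M12S.SL1
import Cfsg.Agent.M12S.SL2

/-! The tree for `2 × Aut M₁₂`. -/

set_option autoImplicit false
set_option maxRecDepth 100000
set_option maxHeartbeats 0
set_option Elab.async false

namespace CF.M12S

open CF.HSo CF.Comp

universe u

theorem g3_0 : Gl.{u} ([K3_0, K2_0, K1_0] ++ W8)
    [[(512, 512, 768), (256, 256, 512), (64, 64, 64), (32, 32, 32), (16, 16, 10), (8, 8, 6), (4, 4, 18), (2, 2, 3), (1, 1, 2)], []]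
    [([0, 0, 0], []), ([257, 0], [0, 0, 257])] := Gl.of meq8 _ (
  .lt [2049, 0, 2049, 0, 0, 0, 0, 2049, 0] <|
  .tab 2 [((512, 512, 512), [(0, 1, [2049, 0, 2049, 0, 0, 0, 0, 2049, 0], 3, 0), (0, 10, [1025, 2049, 0, 2049, 0, 0, 0, 0, 2049, 0], 1, 512), (1, 9, [4], 4, 0)]), ((256, 256, 256), [(0, 1, [2049, 0, 2049, 0, 0, 0, 0, 2049, 0], 3, 0), (0, 10, [513, 2049, 0, 2049, 0, 0, 0, 0, 2049, 0], 1, 256), (1, 9, [4], 4, 0)]), ((64, 64, 94), [(0, 1, [2049, 0, 2049, 0, 0, 0, 0, 2049, 0], 3, 0), (0, 10, [189, 2049, 0, 2049, 0, 0, 0, 0, 2049, 0], 1, 64), (1, 9, [4], 4, 0)]), ((32, 32, 32), [(0, 1, [2049, 0, 2049, 0, 0, 0, 0, 2049, 0], 3, 0), (0, 10, [65, 2049, 0, 2049, 0, 0, 0, 0, 2049, 0], 1, 32), (1, 9, [4], 4, 0)]), ((16, 16, 528), [(0, 1, [2049, 0, 2049, 0, 0, 0, 0, 2049, 0], 3,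 0), (0, 10, [1057, 2049, 0, 2049, 0, 0, 0, 0, 2049, 0], 1, 16), (1, 9, [4], 4, 0)]), ((8, 8, 776), [(0, 1, [2049, 0, 2049, 0, 0, 0, 0, 2049, 0], 3, 0), (0, 10, [1553, 2049, 0, 2049, 0, 0, 0, 0, 2049, 0], 1, 8), (1, 9, [4], 4, 0)]), ((4, 4, 260), [(0, 1, [2049, 0, 2049, 0, 0, 0, 0, 2049, 0], 3, 0), (0, 10, [521, 2049, 0, 2049, 0, 0, 0, 0, 2049, 0], 1, 4), (1, 9, [4], 4, 0)]), ((2, 2, 2), [(0, 1, [2049, 0, 2049, 0, 0, 0, 0, 2049, 0], 3, 0), (0, 10, [5, 2049, 0, 2049, 0, 0, 0, 0, 2049, 0], 1, 2), (1, 9, [4], 4, 0)]), ((1, 1, 1), [(0, 1, [2049, 0, 2049, 0, 0, 0, 0, 2049, 0], 3, 0), (0, 10, [3, 2049, 0, 2049, 0, 0, 0, 0, 2049, 0], 1, 1), (1, 9, [4], 4, 0)])] <|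
  .cen false [4, 257] [513, 257, 4] [95, 1, 3] [[4, 8, 256]] [
  (0, 0, .tab 2 [((128, 128, 384), [(0, 2, [1, 513, 257, 4], 3, 0), (0, 3, [769], 0, 0)])] <|
  .cen false [4, 4] [1] [64, 1, 2] [[150, 300]] [
  (0, 0, .cen false [4, 2049] [513, 2049, 4] [346, 1, 2] [[150, 100]] [
  (0, 0, .ext K4_1 [4] 64 [(0, 2, [1, 1], 3, 1), (0, 2, [1], 0, 0)] [[(0, 2, [1, 513, 2049, 4], 3, 0), (0, 3, [2561], 0, 0)], [(0, 2, [1025, 4], 1, 512)], [(0, 2, [513, 4], 1, 256)], [(0, 2, [769, 4], 1, 128)], [(0, 2, [189, 4], 1, 64)], [(0, 2, [65, 4], 1, 32)], [(0, 2, [1057, 4], 1, 16)], [(0, 2, [1553, 4], 1, 8)], [(0, 2, [521, 4], 1, 4)], [(0, 2, [5, 4], 1, 2)], [(0, 2, [3, 4], 1, 1)]] <|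
  .goal _ _ _ lf1),
  (0, 1, .kill 1025 1024 [] [(0, 1, [257, 769, 3, 513, 2049, 1, 1], 0, 0), (5, 2, [4, 4], 4, 1), (2, 4, [4, 2049], 4, 0), (1, 2, [4, 257], 2, 128), (2, 2, [2305], 0, 0), (3, 1, [2049, 0, 2049, 0, 0, 0, 0, 2049, 0], 3, 3), (1, 1, [2049, 0, 2049, 0, 0, 0, 0, 2049, 0], 3, 3), (4, 3, [], 3, 4), (11, 3, [], 3, 4), (0, 2, [513, 2049, 257], 0, 0), (2, 2, [0, 0, 257], 3, 5), (4, 2, [513, 2049, 257], 0, 0), (1, 4, [1537, 2049, 0, 0], 1, 256), (0, 2, [1025], 0, 0), (5, 2, [0, 0, 257], 3, 5), (7, 2, [513, 2049, 257], 0, 0), (1, 7, [1025, 2049, 0, 0, 2049, 0, 0], 1, 256), (0, 2, [1], 0, 0), (8, 2, [0, 0, 257], 3, 5), (10, 2, [2049], 0, 0), (10, 2, [], 0, 0), (8, 3, [], 3, 4), (7, 2, [], 0, 0), (5, 3, [], 3, 4), (4, 2, [], 0, 0), (2, 3, [], 3, 4), (0, 2, [2049], 0, 0)])]),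
  (0, 1, .eq [2049, 0, 4] [(2, 1, [2049, 0, 2049, 0, 0, 0, 0, 2049, 0], 3, 2), (5, 3, [], 3, 3), (3, 0, [0, 0, 0], 4, 3), (0, 9, [4], 4, 2)] [4, 2049, 0] <|
  .kill 2 1 [2049, 0] [(0, 3, [2049, 0, 3], 2, 1), (2, 1, [3, 1], 0, 0), (2, 2, [4, 4], 4, 1), (0, 3, [4, 2049, 0], 3, 0), (1, 3, [4, 2049, 0], 3, 0), (0, 2, [3, 1], 3, 1), (0, 2, [3], 0, 0)])]),
  (0, 1, .tab 2 [((128, 128, 385), [(0, 2, [3, 513, 257, 4], 3, 0), (0, 3, [771], 0, 0)])] <|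
  .cen false [4, 4] [1] [64, 1, 2] [[150, 300]] [
  (0, 0, .cen false [4, 2049] [513, 2049, 4] [346, 1, 2] [[150, 100]] [
  (0, 0, .kill 1025 1024 [] [(0, 1, [257, 771, 1, 513, 2049, 1, 1], 0, 0), (5, 2, [4, 4], 4, 1), (2, 4, [4, 2049], 4, 0), (1, 2, [4, 257], 2, 128), (2, 2, [2305], 0, 0), (3, 1, [2049, 0, 2049, 0, 0, 0, 0, 2049, 0], 3, 3), (1, 1, [2049, 0, 2049, 0, 0, 0, 0, 2049, 0], 3, 3), (4, 3, [], 3, 4), (11, 3, [], 3, 4), (0, 2, [513, 2049, 257], 0, 0), (2, 2, [0, 0, 257], 3, 5), (4, 2, [513, 2049, 257], 0, 0), (1, 4, [1537, 2049, 0, 0], 1, 256), (0, 2, [1025], 0, 0), (5, 2, [0, 0, 257], 3, 5), (7, 2, [513, 2049, 257], 0, 0), (1, 7, [1025, 2049, 0, 0, 2049, 0, 0], 1, 256), (0, 2, [1], 0, 0), (8, 2, [0, 0, 257], 3, 5), (10, 2, [2049], 0, 0), (10, 2, [], 0, 0), (8, 3, [],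 3, 4), (7, 2, [], 0, 0), (5, 3, [], 3, 4), (4, 2, [], 0, 0), (2, 3, [], 3, 4), (0, 2, [2049], 0, 0)]),
  (0, 1, .ext K4_2 [4] 64 [(0, 2, [1, 1], 3, 1), (0, 2, [1], 0, 0)] [[(0, 2, [3, 513, 2049, 4], 3, 0), (0, 3, [2563], 0, 0)], [(0, 2, [1025, 4], 1, 512)], [(0, 2, [513, 4], 1, 256)], [(0, 2, [771, 4], 1, 128)], [(0, 2, [189, 4], 1, 64)], [(0, 2, [65, 4], 1, 32)], [(0, 2, [1057, 4], 1, 16)], [(0, 2, [1553, 4], 1, 8)], [(0, 2, [521, 4], 1, 4)], [(0, 2, [5, 4], 1, 2)], [(0, 2, [3, 4], 1, 1)]] <|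
  .goal _ _ _ lf2)]),
  (0, 1, .eq [2049, 0, 4] [(2, 1, [2049, 0, 2049, 0, 0, 0, 0, 2049, 0], 3, 2), (5, 3, [], 3, 3), (3, 0, [0, 0, 0], 4, 3), (0, 9, [4], 4, 2)] [4, 2049, 0] <|
  .kill 2 1 [2049, 0] [(0, 3, [2049, 0, 3], 2, 1), (2, 1, [3, 1], 0, 0), (2, 2, [4, 4], 4, 1), (0, 3, [4, 2049, 0], 3, 0), (1, 3, [4, 2049, 0], 3, 0), (0, 2, [3, 1], 3, 1), (0, 2, [3], 0, 0)])]),
  (0, 2, .kill 0 1 [4] [(0, 1, [], 0, 0), (1, 0, [257, 257], 0, 0), (0, 2, [5, 513, 257, 4], 3, 0), (3, 2, [5, 513, 257, 4], 3, 0), (0, 6, [3], 0, 0)]),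
  (0, 3, .kill 0 1 [4] [(0, 1, [], 0, 0), (1, 0, [257, 257], 0, 0), (0, 2, [7, 513, 257, 4], 3, 0), (3, 2, [7, 513, 257, 4], 3, 0), (0, 6, [3], 0, 0)])]) (by decide +kernel)

theorem g3_1 : Gl.{u} ([K3_1, K2_0, K1_0] ++ W8)
    [[(512, 512, 768), (256, 256, 512), (64, 64, 64), (32, 32, 32), (16, 16, 10), (8, 8, 6), (4, 4, 18), (2, 2, 3), (1, 1, 2)], []]
    [([0, 0, 0], []), ([257, 0], [0, 0, 257])] := Gl.of meq8 _ (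
  .lt [2049, 0, 2049, 0, 0, 0, 0, 2049, 0] <|
  .tab 2 [((512, 512, 512), [(0, 1, [2049, 0, 2049, 0, 0, 0, 0, 2049, 0], 3, 0), (0, 10, [1025, 2049, 0, 2049, 0, 0, 0, 0, 2049, 0], 1, 512), (1, 9, [4], 4, 0)]), ((256, 256, 256), [(0, 1, [2049, 0, 2049, 0, 0, 0, 0, 2049, 0], 3, 0), (0, 10, [513, 2049, 0, 2049, 0, 0, 0, 0, 2049, 0], 1, 256), (1, 9, [4], 4, 0)]), ((64, 64, 92), [(0, 1, [2049, 0, 2049, 0, 0, 0, 0, 2049, 0], 3, 0), (0, 10, [185, 2049, 0, 2049, 0, 0, 0, 0, 2049, 0], 1, 64), (1, 9, [4], 4, 0)]), ((32, 32, 32), [(0, 1, [2049, 0, 2049, 0, 0, 0, 0, 2049, 0], 3, 0), (0, 10, [65, 2049, 0, 2049, 0, 0, 0, 0, 2049, 0], 1, 32), (1, 9, [4], 4, 0)]), ((16, 16, 530), [(0, 1, [2049, 0, 2049, 0, 0, 0, 0, 2049, 0], 3, 0), (0, 10, [1061, 2049, 0, 2049, 0, 0, 0, 0, 2049, 0], 1, 16), (1,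 9, [4], 4, 0)]), ((8, 8, 779), [(0, 1, [2049, 0, 2049, 0, 0, 0, 0, 2049, 0], 3, 0), (0, 10, [1559, 2049, 0, 2049, 0, 0, 0, 0, 2049, 0], 1, 8), (1, 9, [4], 4, 0)]), ((4, 4, 261), [(0, 1, [2049, 0, 2049, 0, 0, 0, 0, 2049, 0], 3, 0), (0, 10, [523, 2049, 0, 2049, 0, 0, 0, 0, 2049, 0], 1, 4), (1, 9, [4], 4, 0)]), ((2, 2, 2), [(0, 1, [2049, 0, 2049, 0, 0, 0, 0, 2049, 0], 3, 0), (0, 10, [5, 2049, 0, 2049, 0, 0, 0, 0, 2049, 0], 1, 2), (1, 9, [4], 4, 0)]), ((1, 1, 1), [(0, 1, [2049, 0, 2049, 0, 0, 0, 0, 2049, 0], 3, 0), (0, 10, [3, 2049, 0, 2049, 0, 0, 0, 0, 2049, 0], 1, 1), (1, 9, [4], 4, 0)])] <|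
  .cen false [4, 257] [1, 257, 4] [92, 1, 3] [[4, 8, 256]] [
  (0, 0, .tab 2 [((128, 128, 128), [(0, 2, [1, 1, 257, 4], 3, 0), (0, 3, [257], 0, 0)])] <|
  .cen false [4, 4] [1] [64, 1, 2] [[150, 300]] [
  (0, 0, .cen false [4, 2049] [1, 2049, 4] [344, 1, 2] [[150, 100]] [
  (0, 0, .ext K4_3 [4] 64 [(0, 2, [1, 1], 3, 1), (0, 2, [1], 0, 0)] [[(0, 2, [1, 1, 2049, 4], 3, 0), (0, 3, [2049], 0, 0)], [(0, 2, [1025, 4], 1, 512)], [(0, 2, [513, 4], 1, 256)], [(0, 2, [257, 4], 1, 128)], [(0, 2, [185, 4], 1, 64)], [(0, 2, [65, 4], 1, 32)], [(0, 2, [1061, 4], 1, 16)], [(0, 2, [1559, 4], 1, 8)], [(0, 2, [523, 4], 1, 4)], [(0, 2, [5, 4], 1, 2)], [(0, 2, [3, 4], 1, 1)]] <|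
  .goal _ _ _ lf3),
  (0, 1, .kill 1025 1024 [] [(0, 1, [257, 257, 3, 1, 2049, 1, 1], 0, 0), (5, 2, [4, 4], 4, 1), (2, 4, [4, 2049], 4, 0), (1, 2, [4, 257], 2, 128), (2, 2, [2305], 0, 0), (3, 1, [2049, 0, 2049, 0, 0, 0, 0, 2049, 0], 3, 3), (1, 1, [2049, 0, 2049, 0, 0, 0, 0, 2049, 0], 3, 3), (4, 3, [], 3, 4), (11, 3, [], 3, 4), (0, 2, [513, 2049, 257], 0, 0), (2, 2, [0, 0, 257], 3, 5), (4, 2, [513, 2049, 257], 0, 0), (1, 4, [1537, 2049, 0, 0], 1, 256), (0, 2, [1025], 0, 0), (5, 2, [0, 0, 257], 3, 5), (7, 2, [513, 2049, 257], 0, 0), (1, 7, [1025, 2049, 0, 0, 2049, 0, 0], 1, 256), (0, 2, [1], 0, 0), (8, 2, [0, 0, 257], 3, 5), (10, 2, [2049], 0, 0), (10, 2, [], 0, 0), (8, 3, [], 3, 4), (7, 2, [], 0, 0), (5, 3, [], 3, 4), (4, 2, [], 0, 0), (2, 3, [], 3, 4), (0, 2, [2049], 0, 0)])]),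
  (0, 1, .eq [2049, 0, 4] [(2, 1, [2049, 0, 2049, 0, 0, 0, 0, 2049, 0], 3, 2), (5, 3, [], 3, 3), (3, 0, [0, 0, 0], 4, 3), (0, 9, [4], 4, 2)] [4, 2049, 0] <|
  .kill 2 1 [2049, 0] [(0, 3, [2049, 0, 3], 2, 1), (2, 1, [3, 1], 0, 0), (2, 2, [4, 4], 4, 1), (0, 3, [4, 2049, 0], 3, 0), (1, 3, [4, 2049, 0], 3, 0), (0, 2, [3, 1], 3, 1), (0, 2, [3], 0, 0)])]),
  (0, 1, .tab 2 [((128, 128, 129), [(0, 2, [3, 1, 257, 4], 3, 0), (0, 3, [259], 0, 0)])] <|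
  .cen false [4, 4] [1] [64, 1, 2] [[150, 300]] [
  (0, 0, .cen false [4, 2049] [1, 2049, 4] [344, 1, 2] [[150, 100]] [
  (0, 0, .kill 1025 1024 [] [(0, 1, [257, 259, 1, 1, 2049, 1, 1], 0, 0), (5, 2, [4, 4], 4, 1), (2, 4, [4, 2049], 4, 0), (1, 2, [4, 257], 2, 128), (2, 2, [2305], 0, 0), (3, 1, [2049, 0, 2049, 0, 0, 0, 0, 2049, 0], 3, 3), (1, 1, [2049, 0, 2049, 0, 0, 0, 0, 2049, 0], 3, 3), (4, 3, [], 3, 4), (11, 3, [], 3, 4), (0, 2, [513, 2049, 257], 0, 0), (2, 2, [0, 0, 257], 3, 5), (4, 2, [513, 2049, 257], 0, 0), (1, 4, [1537, 2049, 0, 0], 1, 256), (0, 2, [1025], 0, 0), (5, 2, [0, 0, 257], 3, 5), (7, 2, [513, 2049, 257], 0, 0), (1, 7, [1025, 2049, 0, 0, 2049, 0, 0], 1, 256), (0, 2, [1], 0, 0), (8, 2, [0, 0, 257], 3, 5), (10, 2, [2049], 0, 0), (10, 2, [], 0, 0), (8, 3, [], 3,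 4), (7, 2, [], 0, 0), (5, 3, [], 3, 4), (4, 2, [], 0, 0), (2, 3, [], 3, 4), (0, 2, [2049], 0, 0)]),
  (0, 1, .ext K4_4 [4] 64 [(0, 2, [1, 1], 3, 1), (0, 2, [1], 0, 0)] [[(0, 2, [3, 1, 2049, 4], 3, 0), (0, 3, [2051], 0, 0)], [(0, 2, [1025, 4], 1, 512)], [(0, 2, [513, 4], 1, 256)], [(0, 2, [259, 4], 1, 128)], [(0, 2, [185, 4], 1, 64)], [(0, 2, [65, 4], 1, 32)], [(0, 2, [1061, 4], 1, 16)], [(0, 2, [1559, 4], 1, 8)], [(0, 2, [523, 4], 1, 4)], [(0, 2, [5, 4], 1, 2)], [(0, 2, [3, 4], 1, 1)]] <|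
  .goal _ _ _ lf4)]),
  (0, 1, .eq [2049, 0, 4] [(2, 1, [2049, 0, 2049, 0, 0, 0, 0, 2049, 0], 3, 2), (5, 3, [], 3, 3), (3, 0, [0, 0, 0], 4, 3), (0, 9, [4], 4, 2)] [4, 2049, 0] <|
  .kill 2 1 [2049, 0] [(0, 3, [2049, 0, 3], 2, 1), (2, 1, [3, 1], 0, 0), (2, 2, [4, 4], 4, 1), (0, 3, [4, 2049, 0], 3, 0), (1, 3, [4, 2049, 0], 3, 0), (0, 2, [3, 1], 3, 1), (0, 2, [3], 0, 0)])]),
  (0, 2, .kill 0 1 [4] [(0, 1, [], 0, 0), (1, 0, [257, 257], 0, 0), (0, 2, [5, 1, 257, 4], 3, 0), (3, 2, [5, 1, 257, 4], 3, 0), (0, 6, [3], 0, 0)]),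
  (0, 3, .kill 0 1 [4] [(0, 1, [], 0, 0), (1, 0, [257, 257], 0, 0), (0, 2, [7, 1, 257, 4], 3, 0), (3, 2, [7, 1, 257, 4], 3, 0), (0, 6, [3], 0, 0)])]) (by decide +kernel)

theorem g2_0 : Gl.{u} ([K2_0, K1_0] ++ W8)
    [[(512, 512, 768), (256, 256, 512), (64, 64, 64), (32, 32, 32), (16, 16, 10), (8, 8, 6), (4, 4, 18), (2, 2, 3), (1, 1, 2)], [(256, 256, 256), (128, 128, 28), (64, 64, 64), (40, 42, 168), (24, 25, 154), (4, 4, 6), (2, 2, 4), (1, 1, 1)]]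
    [([0, 0, 0], []), ([2, 2, 2], []), ([257, 0], [0, 0, 257]), ([17, 2], [2, 2, 17])] := Gl.of meq8 _ (
  .cen true [1025, 2, 1025, 2, 1025, 2] [] [64, 1] [[172, 128, 256], [2], [2]] [
  (0, 0, .eq [2, 1025, 2] [(3, 0, [1025, 1025], 0, 0), (4, 0, [2, 2, 2], 4, 2), (0, 0, [1025, 1025], 0, 0), (1, 6, [1], 3, 0), (0, 2, [1025], 0, 0)] [1025, 2, 2, 1025] <|
  .eq [2, 17] [(0, 0, [2, 2, 2], 4, 3), (2, 3, [17, 2], 4, 5), (0, 3, [17, 2], 4, 5)] [17, 2, 2] <|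
  .eq [2, 1025, 2, 2, 1025] [(0, 3, [1025, 2, 2, 1025], 3, 1), (3, 1, [1, 1025], 0, 0), (1, 3, [1, 2, 2], 1, 0), (0, 2, [1025], 0, 0), (2, 3, [1025, 2, 2, 1025], 3, 1), (5, 2, [], 0, 0), (2, 1, [1, 1025], 0, 0), (1, 2, [1, 2], 1, 0), (0, 2, [1025], 0, 0)] [1025, 2, 1025, 2, 2] <|
  .eq [2, 1025, 2, 2, 17] [(2, 3, [17, 2], 4, 7), (1, 2, [17, 1025], 0, 0), (0, 2, [17, 2, 2], 3, 1), (3, 1, [1, 1025], 0, 0), (1, 3, [1, 2, 2], 1, 0), (0, 2, [17], 0, 0), (2, 3, [1025, 2, 2, 1025], 3, 2), (2, 1, [1, 1025], 0, 0), (1, 2, [1, 2], 1, 0), (0, 2, [17], 0, 0), (5, 1, [1025, 1], 0, 0), (1, 5, [1025, 2, 1025, 2, 2], 3, 0), (0, 2, [1041], 0, 0), (1, 5, [1, 2, 1025, 2, 2], 1, 0), (0, 2, [1041], 0, 0)] [1041, 2, 1025, 2, 2] <|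
  .ext K3_0 [2, 1025, 2, 2] 64 [(2, 3, [], 3, 6), (1, 2, [1], 0, 0), (0, 2, [1, 2], 1, 0), (1, 3, [], 3, 6)] [[(0, 5, [1025, 2, 1025, 2, 2], 3, 1)], [(0, 5, [513, 2, 1025, 2, 2], 1, 256)], [(0, 5, [769, 2, 1025, 2, 2], 1, 128)], [(0, 5, [137, 2, 1025, 2, 2], 1, 64)], [(4, 1, [85, 17], 0, 0), (0, 5, [597, 2, 1025, 2, 2], 1, 42), (1, 5, [1041, 2, 1025, 2, 2], 3, 0), (0, 2, [1601], 0, 0)], [(4, 1, [51, 17], 0, 0), (0, 5, [563, 2, 1025, 2, 2], 1, 25), (1, 5, [1041, 2, 1025, 2, 2], 3, 0), (0, 2, [1569], 0, 0)], [(0, 5, [1041, 2, 1025, 2, 2], 3, 0)], [(0, 5, [9, 2, 1025, 2, 2], 1, 4)], [(0, 5, [5, 2, 1025, 2, 2], 1, 2)], [(0, 5, [3, 2, 1025, 2, 2], 1, 1)]] <|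
  .goal _ _ _ g3_0),
  (0, 1, .eq [2, 1025, 2] [(3, 0, [1025, 1025], 0, 0), (4, 0, [2, 2, 2], 4, 2), (0, 0, [1025, 1025], 0, 0), (1, 6, [3], 3, 0), (0, 2, [1027], 0, 0)] [1027, 2, 2, 1025] <|
  .eq [2, 17] [(0, 0, [2, 2, 2], 4, 3), (2, 3, [17, 2], 4, 5), (0, 3, [17, 2], 4, 5)] [17, 2, 2] <|
  .eq [2, 1025, 2, 2, 1025] [(0, 3, [1027, 2, 2, 1025], 3, 1), (3, 1, [1, 1025], 0, 0), (1, 3, [1, 2, 2], 1, 0), (0, 2, [1027], 0, 0), (2, 3, [1027, 2, 2, 1025], 3, 1), (5, 2, [], 0, 0), (2, 1, [3, 1025], 0, 0), (1, 2, [3, 2], 1, 1), (0, 2, [1025], 0, 0)] [1025, 2, 1025, 2, 2] <|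
  .eq [2, 1025, 2, 2, 17] [(2, 3, [17, 2], 4, 7), (1, 2, [17, 1025], 0, 0), (0, 2, [17, 2, 2], 3, 1), (3, 1, [1, 1025], 0, 0), (1, 3, [1, 2, 2], 1, 0), (0, 2, [17], 0, 0), (2, 3, [1027, 2, 2, 1025], 3, 2), (2, 1, [3, 1025], 0, 0), (1, 2, [3, 2], 1, 1), (0, 2, [19], 0, 0), (5, 1, [1025, 1], 0, 0), (1, 5, [1025, 2, 1025, 2, 2], 3, 0), (0, 2, [1043], 0, 0), (1, 5, [1, 2, 1025, 2, 2], 1, 0), (0, 2, [1043], 0, 0)] [1043, 2, 1025, 2, 2] <|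
  .ext K3_1 [2, 1025, 2, 2] 64 [(2, 3, [], 3, 6), (1, 2, [1], 0, 0), (0, 2, [1, 2], 1, 0), (1, 3, [], 3, 6)] [[(0, 5, [1025, 2, 1025, 2, 2], 3, 1)], [(0, 5, [513, 2, 1025, 2, 2], 1, 256)], [(0, 5, [769, 2, 1025, 2, 2], 1, 128)], [(0, 5, [137, 2, 1025, 2, 2], 1, 64)], [(4, 1, [85, 17], 0, 0), (0, 5, [597, 2, 1025, 2, 2], 1, 42), (1, 5, [1043, 2, 1025, 2, 2], 3, 0), (0, 2, [1603], 0, 0)], [(4, 1, [51, 17], 0, 0), (0, 5, [563, 2, 1025, 2, 2], 1, 25), (1, 5, [1043, 2, 1025, 2, 2], 3, 0), (0, 2, [1571], 0, 0)], [(0, 5, [1043, 2, 1025, 2, 2], 3, 0)], [(0, 5, [9, 2, 1025, 2, 2], 1, 4)], [(0, 5, [5, 2, 1025, 2, 2], 1, 2)], [(0, 5, [3, 2, 1025, 2, 2], 1, 1)]] <|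
  .goal _ _ _ g3_1)]) (by decide +kernel)

theorem g3_114 : Gl.{u} ([K3_114, K2_66, K1_0] ++ W8)
    [[(512, 512, 834), (256, 256, 512), (64, 64, 64), (32, 32, 32), (16, 16, 10), (8, 8, 6), (4, 4, 18), (2, 2, 3), (1, 1, 2)], []]
    [([0, 0, 0], []), ([257, 0], [0, 0, 257])] := Gl.of meq8 _ (
  .lt [0, 2049, 0, 0, 0, 0, 2049, 0, 0, 2049, 0, 0, 0, 0, 2049, 0, 0, 2049, 0, 0, 0, 0, 2049, 0] <|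
  .tab 2 [((512, 512, 835), [(0, 1, [0, 2049, 0, 0, 0, 0, 2049, 0, 0, 2049, 0, 0, 0, 0, 2049, 0, 0, 2049, 0, 0, 0, 0, 2049, 0], 3, 0), (0, 25, [1671, 0, 2049, 0, 0, 0, 0, 2049, 0, 0, 2049, 0, 0, 0, 0, 2049, 0, 0, 2049, 0, 0, 0, 0, 2049, 0], 1, 512), (1, 24, [4], 4, 0)]), ((256, 256, 65), [(0, 1, [0, 2049, 0, 0, 0, 0, 2049, 0, 0, 2049, 0, 0, 0, 0, 2049, 0, 0, 2049, 0, 0, 0, 0, 2049, 0], 3, 0), (0, 25, [131, 0, 2049, 0, 0, 0, 0, 2049, 0, 0, 2049, 0, 0, 0, 0, 2049, 0, 0, 2049, 0, 0, 0, 0, 2049, 0], 1, 256), (1, 24, [4], 4, 0)]), ((64, 64, 257), [(0, 1, [0, 2049, 0, 0, 0, 0, 2049, 0, 0, 2049, 0, 0, 0, 0, 2049, 0, 0, 2049, 0, 0, 0, 0, 2049, 0], 3, 0), (0, 25, [515, 0, 2049, 0, 0, 0, 0, 2049, 0, 0, 2049, 0, 0, 0, 0, 2049, 0, 0, 2049, 0, 0, 0, 0, 2049, 0], 1, 64), (1, 24, [4], 4, 0)]),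 ((32, 32, 32), [(0, 1, [0, 2049, 0, 0, 0, 0, 2049, 0, 0, 2049, 0, 0, 0, 0, 2049, 0, 0, 2049, 0, 0, 0, 0, 2049, 0], 3, 0), (0, 25, [65, 0, 2049, 0, 0, 0, 0, 2049, 0, 0, 2049, 0, 0, 0, 0, 2049, 0, 0, 2049, 0, 0, 0, 0, 2049, 0], 1, 32), (1, 24, [4], 4, 0)]), ((16, 16, 19), [(0, 1, [0, 2049, 0, 0, 0, 0, 2049, 0, 0, 2049, 0, 0, 0, 0, 2049, 0, 0, 2049, 0, 0, 0, 0, 2049, 0], 3, 0), (0, 25, [39, 0, 2049, 0, 0, 0, 0, 2049, 0, 0, 2049, 0, 0, 0, 0, 2049, 0, 0, 2049, 0, 0, 0, 0, 2049, 0], 1, 16), (1, 24, [4], 4, 0)]), ((8, 8, 10), [(0, 1, [0, 2049, 0, 0, 0, 0, 2049, 0, 0, 2049, 0, 0, 0, 0, 2049, 0, 0, 2049, 0, 0, 0, 0, 2049, 0], 3, 0), (0, 25, [21, 0, 2049, 0, 0, 0, 0, 2049, 0, 0, 2049, 0, 0, 0, 0, 2049, 0, 0, 2049, 0, 0, 0, 0, 2049, 0], 1, 8), (1, 24, [4], 4, 0)]), ((4, 4, 5), [(0, 1, [0,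 2049, 0, 0, 0, 0, 2049, 0, 0, 2049, 0, 0, 0, 0, 2049, 0, 0, 2049, 0, 0, 0, 0, 2049, 0], 3, 0), (0, 25, [11, 0, 2049, 0, 0, 0, 0, 2049, 0, 0, 2049, 0, 0, 0, 0, 2049, 0, 0, 2049, 0, 0, 0, 0, 2049, 0], 1, 4), (1, 24, [4], 4, 0)]), ((2, 2, 2), [(0, 1, [0, 2049, 0, 0, 0, 0, 2049, 0, 0, 2049, 0, 0, 0, 0, 2049, 0, 0, 2049, 0, 0, 0, 0, 2049, 0], 3, 0), (0, 25, [5, 0, 2049, 0, 0, 0, 0, 2049, 0, 0, 2049, 0, 0, 0, 0, 2049, 0, 0, 2049, 0, 0, 0, 0, 2049, 0], 1, 2), (1, 24, [4], 4, 0)]), ((1, 1, 1), [(0, 1, [0, 2049, 0, 0, 0, 0, 2049, 0, 0, 2049, 0, 0, 0, 0, 2049, 0, 0, 2049, 0, 0, 0, 0, 2049, 0], 3, 0), (0, 25, [3, 0, 2049, 0, 0, 0, 0, 2049, 0, 0, 2049, 0, 0, 0, 0, 2049, 0, 0, 2049, 0, 0, 0, 0, 2049, 0], 1, 1), (1, 24, [4], 4, 0)])] <|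
  .cen false [4, 257] [1, 257, 4] [257, 1, 3] [[4, 8, 64]] [
  (0, 0, .tab 2 [((128, 128, 128), [(0, 2, [1, 1, 257, 4], 3, 0), (0, 3, [257], 0, 0)])] <|
  .cen false [4, 4] [1] [64, 1, 2] [[150, 300]] [
  (0, 0, .cen false [4, 2049] [1, 2049, 4] [260, 1, 2] [[150, 512]] [
  (0, 0, .ext K4_5 [4] 64 [(0, 2, [1, 1], 3, 1), (0, 2, [1], 0, 0)] [[(0, 2, [1, 1, 2049, 4], 3, 0), (0, 3, [2049], 0, 0)], [(0, 2, [1671, 4], 1, 512)], [(0, 2, [131, 4], 1, 256)], [(0, 2, [257, 4], 1, 128)], [(0, 2, [515, 4], 1, 64)], [(0, 2, [65, 4], 1, 32)], [(0, 2, [39, 4], 1, 16)], [(0, 2, [21, 4], 1, 8)], [(0, 2, [11, 4], 1, 4)], [(0, 2, [5, 4], 1, 2)], [(0, 2, [3, 4], 1, 1)]] <|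
  .goal _ _ _ lf5),
  (0, 1, .ext K4_6 [4] 64 [(0, 2, [1, 1], 3, 1), (0, 2, [1], 0, 0)] [[(0, 2, [3, 1, 2049, 4], 3, 0), (0, 3, [2051], 0, 0)], [(0, 2, [1671, 4], 1, 512)], [(0, 2, [131, 4], 1, 256)], [(0, 2, [257, 4], 1, 128)], [(0, 2, [515, 4], 1, 64)], [(0, 2, [65, 4], 1, 32)], [(0, 2, [39, 4], 1, 16)], [(0, 2, [21, 4], 1, 8)], [(0, 2, [11, 4], 1, 4)], [(0, 2, [5, 4], 1, 2)], [(0, 2, [3, 4], 1, 1)]] <|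
  .goal _ _ _ lf6)]),
  (0, 1, .cen false [4, 2049] [1, 2049, 4] [260, 1, 2] [[150, 512]] [
  (0, 0, .kill 1 0 [] [(0, 1, [257, 257, 3, 1], 0, 0), (2, 2, [4, 4], 4, 1), (1, 2, [4, 257], 2, 128), (3, 1, [0, 2049, 0, 0, 0, 0, 2049, 0, 0, 2049, 0, 0, 0, 0, 2049, 0, 0, 2049, 0, 0, 0, 0, 2049, 0], 3, 3), (1, 1, [0, 2049, 0, 0, 0, 0, 2049, 0, 0, 2049, 0, 0, 0, 0, 2049, 0, 0, 2049, 0, 0, 0, 0, 2049, 0], 3, 3), (3, 3, [], 3, 4), (8, 3, [], 3, 4), (13, 3, [], 3, 4), (19, 3, [], 3, 4), (24, 3, [], 3, 4), (29, 3, [], 3, 4), (0, 2, [0, 0, 257], 3, 5), (0, 0, [1], 0, 0), (3, 2, [649, 2049, 257], 0, 0), (1, 3, [1559, 0, 0], 1, 324), (0, 2, [1559], 0, 0), (4, 2, [0, 0, 257], 3, 5), (6, 2, [649, 2049, 257], 0, 0), (1, 6, [1645, 0, 0, 2049, 0, 0], 1, 324), (0, 2, [121], 0, 0), (7, 2, [0, 0, 257],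 3, 5), (9, 2, [0, 0, 257], 3, 5), (11, 2, [649, 2049, 257], 0, 0), (1, 11, [757, 0, 0, 2049, 0, 0, 2049, 0, 0, 0, 0], 1, 324), (0, 2, [649], 0, 0), (12, 2, [0, 0, 257], 3, 5), (14, 2, [649, 2049, 257], 0, 0), (1, 14, [715, 0, 0, 2049, 0, 0, 2049, 0, 0, 0, 0, 2049, 0, 0], 1, 324), (0, 2, [65], 0, 0), (15, 2, [0, 0, 257], 3, 5), (17, 2, [0, 0, 257], 3, 5), (19, 2, [649, 2049, 257], 0, 0), (1, 19, [1255, 0, 0, 2049, 0, 0, 2049, 0, 0, 0, 0, 2049, 0, 0, 2049, 0, 0, 0, 0], 1, 324), (0, 2, [1189], 0, 0), (20, 2, [0, 0, 257], 3, 5), (22, 2, [649, 2049, 257], 0, 0), (1, 22, [1185, 0, 0, 2049, 0, 0, 2049, 0, 0, 0, 0, 2049, 0, 0, 2049, 0, 0, 0, 0, 2049, 0, 0], 1, 324), (0, 2, [1], 0, 0), (23, 2, [0, 0, 257], 3, 5), (25, 2, [], 0, 0), (7, 3, [], 3, 4), (12, 3, [], 3, 4), (17, 3, [], 3, 4),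 (16, 2, [], 0, 0), (14, 3, [], 3, 4), (13, 2, [], 0, 0), (12, 3, [], 3, 4), (11, 2, [], 0, 0), (9, 3, [], 3, 4), (8, 2, [], 0, 0), (7, 3, [], 3, 4), (6, 2, [], 0, 0), (4, 3, [], 3, 4), (3, 2, [], 0, 0), (1, 3, [], 3, 4)]),
  (0, 1, .kill 1 0 [] [(0, 1, [257, 257, 3, 1], 0, 0), (2, 2, [4, 4], 4, 1), (1, 2, [4, 257], 2, 128), (3, 1, [0, 2049, 0, 0, 0, 0, 2049, 0, 0, 2049, 0, 0, 0, 0, 2049, 0, 0, 2049, 0, 0, 0, 0, 2049, 0], 3, 3), (1, 1, [0, 2049, 0, 0, 0, 0, 2049, 0, 0, 2049, 0, 0, 0, 0, 2049, 0, 0, 2049, 0, 0, 0, 0, 2049, 0], 3, 3), (3, 3, [], 3, 4), (8, 3, [], 3, 4), (13, 3, [], 3, 4), (19, 3, [], 3, 4), (24, 3, [], 3, 4), (29, 3, [], 3, 4), (0, 2, [0, 0, 257], 3, 5), (0, 0, [1], 0, 0), (3, 2, [649, 2049, 257], 0, 0), (1, 3, [1559, 0, 0], 1, 324), (0, 2, [1559], 0, 0), (4, 2,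 [0, 0, 257], 3, 5), (6, 2, [649, 2049, 257], 0, 0), (1, 6, [1645, 0, 0, 2049, 0, 0], 1, 324), (0, 2, [121], 0, 0), (7, 2, [0, 0, 257], 3, 5), (9, 2, [0, 0, 257], 3, 5), (11, 2, [649, 2049, 257], 0, 0), (1, 11, [757, 0, 0, 2049, 0, 0, 2049, 0, 0, 0, 0], 1, 324), (0, 2, [649], 0, 0), (12, 2, [0, 0, 257], 3, 5), (14, 2, [649, 2049, 257], 0, 0), (1, 14, [715, 0, 0, 2049, 0, 0, 2049, 0, 0, 0, 0, 2049, 0, 0], 1, 324), (0, 2, [65], 0, 0), (15, 2, [0, 0, 257], 3, 5), (17, 2, [0, 0, 257], 3, 5), (19, 2, [649, 2049, 257], 0, 0), (1, 19, [1255, 0, 0, 2049, 0, 0, 2049, 0, 0, 0, 0, 2049, 0, 0, 2049, 0, 0, 0, 0], 1, 324), (0, 2, [1189], 0, 0), (20, 2, [0, 0, 257], 3, 5), (22, 2, [649, 2049, 257], 0, 0), (1, 22, [1185, 0, 0, 2049, 0, 0, 2049, 0, 0, 0, 0, 2049, 0, 0, 2049, 0, 0, 0, 0, 2049,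 0, 0], 1, 324), (0, 2, [1], 0, 0), (23, 2, [0, 0, 257], 3, 5), (25, 2, [], 0, 0), (7, 3, [], 3, 4), (12, 3, [], 3, 4), (17, 3, [], 3, 4), (16, 2, [], 0, 0), (14, 3, [], 3, 4), (13, 2, [], 0, 0), (12, 3, [], 3, 4), (11, 2, [], 0, 0), (9, 3, [], 3, 4), (8, 2, [], 0, 0), (7, 3, [], 3, 4), (6, 2, [], 0, 0), (4, 3, [], 3, 4), (3, 2, [], 0, 0), (1, 3, [], 3, 4)])])]),
  (0, 1, .tab 2 [((128, 128, 129), [(0, 2, [3, 1, 257, 4], 3, 0), (0, 3, [259], 0, 0)])] <|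
  .cen false [4, 4] [1] [64, 1, 2] [[150, 300]] [
  (0, 0, .cen false [4, 2049] [1, 2049, 4] [260, 1, 2] [[150, 512]] [
  (0, 0, .kill 1 0 [] [(0, 1, [257, 259, 1, 1], 0, 0), (2, 2, [4, 4], 4, 1), (1, 2, [4, 257], 2, 128), (3, 1, [0, 2049, 0, 0, 0, 0, 2049, 0, 0, 2049, 0, 0, 0, 0, 2049, 0, 0, 2049, 0, 0, 0, 0, 2049, 0], 3, 3), (1, 1, [0, 2049, 0, 0, 0, 0, 2049, 0, 0, 2049, 0, 0, 0, 0, 2049, 0, 0, 2049, 0, 0, 0, 0, 2049, 0], 3, 3), (3, 3, [], 3, 4), (8, 3, [], 3, 4), (13, 3, [], 3, 4), (19, 3, [], 3, 4), (24, 3, [], 3, 4), (29, 3, [], 3, 4), (0, 2, [0, 0, 257], 3, 5), (0, 0, [1], 0, 0), (3, 2, [649, 2049, 257], 0, 0), (1, 3, [1559, 0, 0], 1, 324), (0, 2, [1559], 0, 0), (4, 2, [0, 0, 257], 3, 5), (6, 2, [649, 2049, 257], 0, 0), (1, 6, [1645, 0, 0, 2049, 0, 0], 1, 324), (0, 2, [121],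 0, 0), (7, 2, [0, 0, 257], 3, 5), (9, 2, [0, 0, 257], 3, 5), (11, 2, [649, 2049, 257], 0, 0), (1, 11, [757, 0, 0, 2049, 0, 0, 2049, 0, 0, 0, 0], 1, 324), (0, 2, [649], 0, 0), (12, 2, [0, 0, 257], 3, 5), (14, 2, [649, 2049, 257], 0, 0), (1, 14, [715, 0, 0, 2049, 0, 0, 2049, 0, 0, 0, 0, 2049, 0, 0], 1, 324), (0, 2, [65], 0, 0), (15, 2, [0, 0, 257], 3, 5), (17, 2, [0, 0, 257], 3, 5), (19, 2, [649, 2049, 257], 0, 0), (1, 19, [1255, 0, 0, 2049, 0, 0, 2049, 0, 0, 0, 0, 2049, 0, 0, 2049, 0, 0, 0, 0], 1, 324), (0, 2, [1189], 0, 0), (20, 2, [0, 0, 257], 3, 5), (22, 2, [649, 2049, 257], 0, 0), (1, 22, [1185, 0, 0, 2049, 0, 0, 2049, 0, 0, 0, 0, 2049, 0, 0, 2049, 0, 0, 0, 0, 2049, 0, 0], 1, 324), (0, 2, [1], 0, 0), (23, 2, [0, 0, 257], 3, 5), (25, 2, [], 0, 0), (7, 3, [], 3, 4), (12, 3,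 [], 3, 4), (17, 3, [], 3, 4), (16, 2, [], 0, 0), (14, 3, [], 3, 4), (13, 2, [], 0, 0), (12, 3, [], 3, 4), (11, 2, [], 0, 0), (9, 3, [], 3, 4), (8, 2, [], 0, 0), (7, 3, [], 3, 4), (6, 2, [], 0, 0), (4, 3, [], 3, 4), (3, 2, [], 0, 0), (1, 3, [], 3, 4)]),
  (0, 1, .kill 1 0 [] [(0, 1, [257, 259, 1, 1], 0, 0), (2, 2, [4, 4], 4, 1), (1, 2, [4, 257], 2, 128), (3, 1, [0, 2049, 0, 0, 0, 0, 2049, 0, 0, 2049, 0, 0, 0, 0, 2049, 0, 0, 2049, 0, 0, 0, 0, 2049, 0], 3, 3), (1, 1, [0, 2049, 0, 0, 0, 0, 2049, 0, 0, 2049, 0, 0, 0, 0, 2049, 0, 0, 2049, 0, 0, 0, 0, 2049, 0], 3, 3), (3, 3, [], 3, 4), (8, 3, [], 3, 4), (13, 3, [], 3, 4), (19, 3, [], 3, 4), (24, 3, [], 3, 4), (29, 3, [], 3, 4), (0, 2, [0, 0, 257], 3, 5), (0, 0, [1], 0, 0), (3, 2, [649, 2049, 257], 0, 0), (1, 3, [1559, 0, 0], 1, 324),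 (0, 2, [1559], 0, 0), (4, 2, [0, 0, 257], 3, 5), (6, 2, [649, 2049, 257], 0, 0), (1, 6, [1645, 0, 0, 2049, 0, 0], 1, 324), (0, 2, [121], 0, 0), (7, 2, [0, 0, 257], 3, 5), (9, 2, [0, 0, 257], 3, 5), (11, 2, [649, 2049, 257], 0, 0), (1, 11, [757, 0, 0, 2049, 0, 0, 2049, 0, 0, 0, 0], 1, 324), (0, 2, [649], 0, 0), (12, 2, [0, 0, 257], 3, 5), (14, 2, [649, 2049, 257], 0, 0), (1, 14, [715, 0, 0, 2049, 0, 0, 2049, 0, 0, 0, 0, 2049, 0, 0], 1, 324), (0, 2, [65], 0, 0), (15, 2, [0, 0, 257], 3, 5), (17, 2, [0, 0, 257], 3, 5), (19, 2, [649, 2049, 257], 0, 0), (1, 19, [1255, 0, 0, 2049, 0, 0, 2049, 0, 0, 0, 0, 2049, 0, 0, 2049, 0, 0, 0, 0], 1, 324), (0, 2, [1189], 0, 0), (20, 2, [0, 0, 257], 3, 5), (22, 2, [649, 2049, 257], 0, 0), (1, 22, [1185, 0, 0, 2049, 0, 0, 2049, 0, 0, 0, 0, 2049, 0,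 0, 2049, 0, 0, 0, 0, 2049, 0, 0], 1, 324), (0, 2, [1], 0, 0), (23, 2, [0, 0, 257], 3, 5), (25, 2, [], 0, 0), (7, 3, [], 3, 4), (12, 3, [], 3, 4), (17, 3, [], 3, 4), (16, 2, [], 0, 0), (14, 3, [], 3, 4), (13, 2, [], 0, 0), (12, 3, [], 3, 4), (11, 2, [], 0, 0), (9, 3, [], 3, 4), (8, 2, [], 0, 0), (7, 3, [], 3, 4), (6, 2, [], 0, 0), (4, 3, [], 3, 4), (3, 2, [], 0, 0), (1, 3, [], 3, 4)])]),
  (0, 1, .cen false [4, 2049] [1, 2049, 4] [260, 1, 2] [[150, 512]] [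
  (0, 0, .ext K4_7 [4] 64 [(0, 2, [3, 1], 3, 1), (0, 2, [3], 0, 0)] [[(0, 2, [1, 1, 2049, 4], 3, 0), (0, 3, [2049], 0, 0)], [(0, 2, [1671, 4], 1, 512)], [(0, 2, [131, 4], 1, 256)], [(0, 2, [259, 4], 1, 128)], [(0, 2, [515, 4], 1, 64)], [(0, 2, [65, 4], 1, 32)], [(0, 2, [39, 4], 1, 16)], [(0, 2, [21, 4], 1, 8)], [(0, 2, [11, 4], 1, 4)], [(0, 2, [5, 4], 1, 2)], [(0, 2, [3, 4], 1, 1)]] <|
  .goal _ _ _ lf7),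
  (0, 1, .ext K4_8 [4] 64 [(0, 2, [3, 1], 3, 1), (0, 2, [3], 0, 0)] [[(0, 2, [3, 1, 2049, 4], 3, 0), (0, 3, [2051], 0, 0)], [(0, 2, [1671, 4], 1, 512)], [(0, 2, [131, 4], 1, 256)], [(0, 2, [259, 4], 1, 128)], [(0, 2, [515, 4], 1, 64)], [(0, 2, [65, 4], 1, 32)], [(0, 2, [39, 4], 1, 16)], [(0, 2, [21, 4], 1, 8)], [(0, 2, [11, 4], 1, 4)], [(0, 2, [5, 4], 1, 2)], [(0, 2, [3, 4], 1, 1)]] <|
  .goal _ _ _ lf8)])]),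
  (0, 2, .kill 0 1 [4] [(0, 1, [], 0, 0), (1, 0, [257, 257], 0, 0), (0, 2, [5, 1, 257, 4], 3, 0), (3, 2, [5, 1, 257, 4], 3, 0), (0, 6, [3], 0, 0)]),
  (0, 3, .kill 0 1 [4] [(0, 1, [], 0, 0), (1, 0, [257, 257], 0, 0), (0, 2, [7, 1, 257, 4], 3, 0), (3, 2, [7, 1, 257, 4], 3, 0), (0, 6, [3], 0, 0)])]) (by decide +kernel)

theorem g3_115 : Gl.{u} ([K3_115, K2_66, K1_0] ++ W8)
    [[(512, 512, 834), (256, 256, 512), (64, 64, 64), (32, 32, 32), (16, 16, 10), (8, 8, 6), (4, 4, 18), (2, 2, 3), (1, 1, 2)], []]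
    [([0, 0, 0], []), ([257, 0], [0, 0, 257])] := Gl.of meq8 _ (
  .lt [0, 2049, 0, 0, 0, 0, 2049, 0, 0, 2049, 0, 0, 0, 0, 2049, 0, 0, 2049, 0, 0, 0, 0, 2049, 0] <|
  .tab 2 [((512, 512, 835), [(0, 1, [0, 2049, 0, 0, 0, 0, 2049, 0, 0, 2049, 0, 0, 0, 0, 2049, 0, 0, 2049, 0, 0, 0, 0, 2049, 0], 3, 0), (0, 25, [1671, 0, 2049, 0, 0, 0, 0, 2049, 0, 0, 2049, 0, 0, 0, 0, 2049, 0, 0, 2049, 0, 0, 0, 0, 2049, 0], 1, 512), (1, 24, [4], 4, 0)]), ((256, 256, 65), [(0, 1, [0, 2049, 0, 0, 0, 0, 2049, 0, 0, 2049, 0, 0, 0, 0, 2049, 0, 0, 2049, 0, 0, 0, 0, 2049, 0], 3, 0), (0, 25, [131, 0, 2049, 0, 0, 0, 0, 2049, 0, 0, 2049, 0, 0, 0, 0, 2049, 0, 0, 2049, 0, 0, 0, 0, 2049, 0], 1, 256), (1, 24, [4], 4, 0)]), ((64, 64, 257), [(0, 1, [0, 2049, 0, 0, 0, 0, 2049, 0, 0, 2049, 0, 0, 0, 0, 2049, 0, 0, 2049,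 0, 0, 0, 0, 2049, 0], 3, 0), (0, 25, [515, 0, 2049, 0, 0, 0, 0, 2049, 0, 0, 2049, 0, 0, 0, 0, 2049, 0, 0, 2049, 0, 0, 0, 0, 2049, 0], 1, 64), (1, 24, [4], 4, 0)]), ((32, 32, 32), [(0, 1, [0, 2049, 0, 0, 0, 0, 2049, 0, 0, 2049, 0, 0, 0, 0, 2049, 0, 0, 2049, 0, 0, 0, 0, 2049, 0], 3, 0), (0, 25, [65, 0, 2049, 0, 0, 0, 0, 2049, 0, 0, 2049, 0, 0, 0, 0, 2049, 0, 0, 2049, 0, 0, 0, 0, 2049, 0], 1, 32), (1, 24, [4], 4, 0)]), ((16, 16, 19), [(0, 1, [0, 2049, 0, 0, 0, 0, 2049, 0, 0, 2049, 0, 0, 0, 0, 2049, 0, 0, 2049, 0, 0, 0, 0, 2049, 0], 3, 0), (0, 25, [39, 0, 2049, 0, 0, 0, 0, 2049, 0, 0, 2049, 0, 0, 0, 0, 2049, 0, 0, 2049, 0, 0, 0, 0, 2049, 0], 1, 16), (1, 24, [4], 4, 0)]), ((8, 8, 10), [(0, 1, [0, 2049, 0, 0, 0, 0, 2049, 0, 0, 2049, 0, 0, 0, 0, 2049, 0, 0, 2049, 0, 0, 0, 0, 2049, 0],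 3, 0), (0, 25, [21, 0, 2049, 0, 0, 0, 0, 2049, 0, 0, 2049, 0, 0, 0, 0, 2049, 0, 0, 2049, 0, 0, 0, 0, 2049, 0], 1, 8), (1, 24, [4], 4, 0)]), ((4, 4, 5), [(0, 1, [0, 2049, 0, 0, 0, 0, 2049, 0, 0, 2049, 0, 0, 0, 0, 2049, 0, 0, 2049, 0, 0, 0, 0, 2049, 0], 3, 0), (0, 25, [11, 0, 2049, 0, 0, 0, 0, 2049, 0, 0, 2049, 0, 0, 0, 0, 2049, 0, 0, 2049, 0, 0, 0, 0, 2049, 0], 1, 4), (1, 24, [4], 4, 0)]), ((2, 2, 2), [(0, 1, [0, 2049, 0, 0, 0, 0, 2049, 0, 0, 2049, 0, 0, 0, 0, 2049, 0, 0, 2049, 0, 0, 0, 0, 2049, 0], 3, 0), (0, 25, [5, 0, 2049, 0, 0, 0, 0, 2049, 0, 0, 2049, 0, 0, 0, 0, 2049, 0, 0, 2049, 0, 0, 0, 0, 2049, 0], 1, 2), (1, 24, [4], 4, 0)]), ((1, 1, 1), [(0, 1, [0, 2049, 0, 0, 0, 0, 2049, 0, 0, 2049, 0, 0, 0, 0, 2049, 0, 0, 2049, 0, 0, 0, 0, 2049, 0], 3, 0), (0, 25, [3, 0, 2049, 0,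 0, 0, 0, 2049, 0, 0, 2049, 0, 0, 0, 0, 2049, 0, 0, 2049, 0, 0, 0, 0, 2049, 0], 1, 1), (1, 24, [4], 4, 0)])] <|
  .cen false [4, 257] [1, 257, 4] [257, 1, 3] [[4, 8, 64]] [
  (0, 0, .tab 2 [((128, 128, 128), [(0, 2, [1, 1, 257, 4], 3, 0), (0, 3, [257], 0, 0)])] <|
  .cen false [4, 4] [1] [64, 1, 2] [[150, 300]] [
  (0, 0, .cen false [4, 2049] [1, 2049, 4] [260, 1, 2] [[150, 512]] [
  (0, 0, .ext K4_5 [4] 64 [(0, 2, [1, 1], 3, 1), (0, 2, [1], 0, 0)] [[(0, 2, [1, 1, 2049, 4], 3, 0), (0, 3, [2049], 0, 0)], [(0, 2, [1671, 4], 1, 512)], [(0, 2, [131, 4], 1, 256)], [(0, 2, [257, 4], 1, 128)], [(0, 2, [515, 4], 1, 64)], [(0, 2, [65, 4], 1, 32)], [(0, 2, [39, 4], 1, 16)], [(0, 2, [21, 4], 1, 8)], [(0, 2, [11, 4], 1, 4)], [(0, 2, [5, 4], 1, 2)], [(0, 2, [3, 4], 1, 1)]] <|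
  .goal _ _ _ lf9),
  (0, 1, .ext K4_6 [4] 64 [(0, 2, [1, 1], 3, 1), (0, 2, [1], 0, 0)] [[(0, 2, [3, 1, 2049, 4], 3, 0), (0, 3, [2051], 0, 0)], [(0, 2, [1671, 4], 1, 512)], [(0, 2, [131, 4], 1, 256)], [(0, 2, [257, 4], 1, 128)], [(0, 2, [515, 4], 1, 64)], [(0, 2, [65, 4], 1, 32)], [(0, 2, [39, 4], 1, 16)], [(0, 2, [21, 4], 1, 8)], [(0, 2, [11, 4], 1, 4)], [(0, 2, [5, 4], 1, 2)], [(0, 2, [3, 4], 1, 1)]] <|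
  .goal _ _ _ lf10)]),
  (0, 1, .cen false [4, 2049] [1, 2049, 4] [260, 1, 2] [[150, 512]] [
  (0, 0, .kill 1 0 [] [(0, 1, [257, 257, 3, 1], 0, 0), (2, 2, [4, 4], 4, 1), (1, 2, [4, 257], 2, 128), (3, 1, [0, 2049, 0, 0, 0, 0, 2049, 0, 0, 2049, 0, 0, 0, 0, 2049, 0, 0, 2049, 0, 0, 0, 0, 2049, 0], 3, 3), (1, 1, [0, 2049, 0, 0, 0, 0, 2049, 0, 0, 2049, 0, 0, 0, 0, 2049, 0, 0, 2049, 0, 0, 0, 0, 2049, 0], 3, 3), (3, 3, [], 3, 4), (8, 3, [], 3, 4), (13, 3, [], 3, 4), (19, 3, [], 3, 4), (24, 3, [], 3, 4), (29, 3, [], 3, 4), (0, 2, [0, 0, 257], 3, 5), (0, 0, [1], 0, 0), (3, 2, [649, 2049, 257], 0, 0), (1, 3, [1559, 0, 0], 1, 324), (0, 2, [1559], 0, 0), (4, 2, [0, 0, 257], 3, 5), (6, 2, [649, 2049, 257], 0, 0), (1, 6, [1643, 0, 0, 2049, 0, 0], 1, 324), (0, 2, [127], 0, 0), (7, 2, [0, 0,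 257], 3, 5), (9, 2, [0, 0, 257], 3, 5), (11, 2, [649, 2049, 257], 0, 0), (1, 11, [753, 0, 0, 2049, 0, 0, 2049, 0, 0, 0, 0], 1, 324), (0, 2, [651], 0, 0), (12, 2, [0, 0, 257], 3, 5), (14, 2, [649, 2049, 257], 0, 0), (1, 14, [717, 0, 0, 2049, 0, 0, 2049, 0, 0, 0, 0, 2049, 0, 0], 1, 324), (0, 2, [69], 0, 0), (15, 2, [0, 0, 257], 3, 5), (17, 2, [0, 0, 257], 3, 5), (19, 2, [649, 2049, 257], 0, 0), (1, 19, [1251, 0, 0, 2049, 0, 0, 2049, 0, 0, 0, 0, 2049, 0, 0, 2049, 0, 0, 0, 0], 1, 324), (0, 2, [1189], 0, 0), (20, 2, [0, 0, 257], 3, 5), (22, 2, [649, 2049, 257], 0, 0), (1, 22, [1185, 0, 0, 2049, 0, 0, 2049, 0, 0, 0, 0, 2049, 0, 0, 2049, 0, 0, 0, 0, 2049, 0, 0], 1, 324), (0, 2, [1], 0, 0), (23, 2, [0, 0, 257], 3, 5), (25, 2, [], 0, 0), (7, 3, [], 3, 4), (12, 3, [], 3, 4), (17, 3, [],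 3, 4), (16, 2, [], 0, 0), (14, 3, [], 3, 4), (13, 2, [], 0, 0), (12, 3, [], 3, 4), (11, 2, [], 0, 0), (9, 3, [], 3, 4), (8, 2, [], 0, 0), (7, 3, [], 3, 4), (6, 2, [], 0, 0), (4, 3, [], 3, 4), (3, 2, [], 0, 0), (1, 3, [], 3, 4)]),
  (0, 1, .kill 1 0 [] [(0, 1, [257, 257, 3, 1], 0, 0), (2, 2, [4, 4], 4, 1), (1, 2, [4, 257], 2, 128), (3, 1, [0, 2049, 0, 0, 0, 0, 2049, 0, 0, 2049, 0, 0, 0, 0, 2049, 0, 0, 2049, 0, 0, 0, 0, 2049, 0], 3, 3), (1, 1, [0, 2049, 0, 0, 0, 0, 2049, 0, 0, 2049, 0, 0, 0, 0, 2049, 0, 0, 2049, 0, 0, 0, 0, 2049, 0], 3, 3), (3, 3, [], 3, 4), (8, 3, [], 3, 4), (13, 3, [], 3, 4), (19, 3, [], 3, 4), (24, 3, [], 3, 4), (29, 3, [], 3, 4), (0, 2, [0, 0, 257], 3, 5), (0, 0, [1], 0, 0), (3, 2, [649, 2049, 257], 0, 0), (1, 3, [1559, 0, 0], 1, 324), (0, 2, [1559], 0, 0),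 (4, 2, [0, 0, 257], 3, 5), (6, 2, [649, 2049, 257], 0, 0), (1, 6, [1643, 0, 0, 2049, 0, 0], 1, 324), (0, 2, [127], 0, 0), (7, 2, [0, 0, 257], 3, 5), (9, 2, [0, 0, 257], 3, 5), (11, 2, [649, 2049, 257], 0, 0), (1, 11, [753, 0, 0, 2049, 0, 0, 2049, 0, 0, 0, 0], 1, 324), (0, 2, [651], 0, 0), (12, 2, [0, 0, 257], 3, 5), (14, 2, [649, 2049, 257], 0, 0), (1, 14, [717, 0, 0, 2049, 0, 0, 2049, 0, 0, 0, 0, 2049, 0, 0], 1, 324), (0, 2, [69], 0, 0), (15, 2, [0, 0, 257], 3, 5), (17, 2, [0, 0, 257], 3, 5), (19, 2, [649, 2049, 257], 0, 0), (1, 19, [1251, 0, 0, 2049, 0, 0, 2049, 0, 0, 0, 0, 2049, 0, 0, 2049, 0, 0, 0, 0], 1, 324), (0, 2, [1189], 0, 0), (20, 2, [0, 0, 257], 3, 5), (22, 2, [649, 2049, 257], 0, 0), (1, 22, [1185, 0, 0, 2049, 0, 0, 2049, 0, 0, 0, 0, 2049, 0, 0, 2049, 0, 0, 0, 0,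 2049, 0, 0], 1, 324), (0, 2, [1], 0, 0), (23, 2, [0, 0, 257], 3, 5), (25, 2, [], 0, 0), (7, 3, [], 3, 4), (12, 3, [], 3, 4), (17, 3, [], 3, 4), (16, 2, [], 0, 0), (14, 3, [], 3, 4), (13, 2, [], 0, 0), (12, 3, [], 3, 4), (11, 2, [], 0, 0), (9, 3, [], 3, 4), (8, 2, [], 0, 0), (7, 3, [], 3, 4), (6, 2, [], 0, 0), (4, 3, [], 3, 4), (3, 2, [], 0, 0), (1, 3, [], 3, 4)])])]),
  (0, 1, .tab 2 [((128, 128, 129), [(0, 2, [3, 1, 257, 4], 3, 0), (0, 3, [259], 0, 0)])] <|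
  .cen false [4, 4] [1] [64, 1, 2] [[150, 300]] [
  (0, 0, .cen false [4, 2049] [1, 2049, 4] [260, 1, 2] [[150, 512]] [
  (0, 0, .kill 1 0 [] [(0, 1, [257, 259, 1, 1], 0, 0), (2, 2, [4, 4], 4, 1), (1, 2, [4, 257], 2, 128), (3, 1, [0, 2049, 0, 0, 0, 0, 2049, 0, 0, 2049, 0, 0, 0, 0, 2049, 0, 0, 2049, 0, 0, 0, 0, 2049, 0], 3, 3), (1, 1, [0, 2049, 0, 0, 0, 0, 2049, 0, 0, 2049, 0, 0, 0, 0, 2049, 0, 0, 2049, 0, 0, 0, 0, 2049, 0], 3, 3), (3, 3, [], 3, 4), (8, 3, [], 3, 4), (13, 3, [], 3, 4), (19, 3, [], 3, 4), (24, 3, [], 3, 4), (29, 3, [], 3, 4), (0, 2, [0, 0, 257], 3, 5), (0, 0, [1], 0, 0), (3, 2, [649, 2049, 257], 0, 0), (1, 3, [1559, 0, 0], 1, 324), (0, 2, [1559], 0, 0), (4, 2, [0, 0, 257], 3, 5), (6, 2, [649, 2049, 257], 0, 0), (1, 6, [1643, 0, 0, 2049, 0, 0], 1, 324), (0, 2, [127],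 0, 0), (7, 2, [0, 0, 257], 3, 5), (9, 2, [0, 0, 257], 3, 5), (11, 2, [649, 2049, 257], 0, 0), (1, 11, [753, 0, 0, 2049, 0, 0, 2049, 0, 0, 0, 0], 1, 324), (0, 2, [651], 0, 0), (12, 2, [0, 0, 257], 3, 5), (14, 2, [649, 2049, 257], 0, 0), (1, 14, [717, 0, 0, 2049, 0, 0, 2049, 0, 0, 0, 0, 2049, 0, 0], 1, 324), (0, 2, [69], 0, 0), (15, 2, [0, 0, 257], 3, 5), (17, 2, [0, 0, 257], 3, 5), (19, 2, [649, 2049, 257], 0, 0), (1, 19, [1251, 0, 0, 2049, 0, 0, 2049, 0, 0, 0, 0, 2049, 0, 0, 2049, 0, 0, 0, 0], 1, 324), (0, 2, [1189], 0, 0), (20, 2, [0, 0, 257], 3, 5), (22, 2, [649, 2049, 257], 0, 0), (1, 22, [1185, 0, 0, 2049, 0, 0, 2049, 0, 0, 0, 0, 2049, 0, 0, 2049, 0, 0, 0, 0, 2049, 0, 0], 1, 324), (0, 2, [1], 0, 0), (23, 2, [0, 0, 257], 3, 5), (25, 2, [], 0, 0), (7, 3, [], 3, 4), (12, 3,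 [], 3, 4), (17, 3, [], 3, 4), (16, 2, [], 0, 0), (14, 3, [], 3, 4), (13, 2, [], 0, 0), (12, 3, [], 3, 4), (11, 2, [], 0, 0), (9, 3, [], 3, 4), (8, 2, [], 0, 0), (7, 3, [], 3, 4), (6, 2, [], 0, 0), (4, 3, [], 3, 4), (3, 2, [], 0, 0), (1, 3, [], 3, 4)]),
  (0, 1, .kill 1 0 [] [(0, 1, [257, 259, 1, 1], 0, 0), (2, 2, [4, 4], 4, 1), (1, 2, [4, 257], 2, 128), (3, 1, [0, 2049, 0, 0, 0, 0, 2049, 0, 0, 2049, 0, 0, 0, 0, 2049, 0, 0, 2049, 0, 0, 0, 0, 2049, 0], 3, 3), (1, 1, [0, 2049, 0, 0, 0, 0, 2049, 0, 0, 2049, 0, 0, 0, 0, 2049, 0, 0, 2049, 0, 0, 0, 0, 2049, 0], 3, 3), (3, 3, [], 3, 4), (8, 3, [], 3, 4), (13, 3, [], 3, 4), (19, 3, [], 3, 4), (24, 3, [], 3, 4), (29, 3, [], 3, 4), (0, 2, [0, 0, 257], 3, 5), (0, 0, [1], 0, 0), (3, 2, [649, 2049, 257], 0, 0), (1, 3, [1559, 0, 0], 1, 324),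 (0, 2, [1559], 0, 0), (4, 2, [0, 0, 257], 3, 5), (6, 2, [649, 2049, 257], 0, 0), (1, 6, [1643, 0, 0, 2049, 0, 0], 1, 324), (0, 2, [127], 0, 0), (7, 2, [0, 0, 257], 3, 5), (9, 2, [0, 0, 257], 3, 5), (11, 2, [649, 2049, 257], 0, 0), (1, 11, [753, 0, 0, 2049, 0, 0, 2049, 0, 0, 0, 0], 1, 324), (0, 2, [651], 0, 0), (12, 2, [0, 0, 257], 3, 5), (14, 2, [649, 2049, 257], 0, 0), (1, 14, [717, 0, 0, 2049, 0, 0, 2049, 0, 0, 0, 0, 2049, 0, 0], 1, 324), (0, 2, [69], 0, 0), (15, 2, [0, 0, 257], 3, 5), (17, 2, [0, 0, 257], 3, 5), (19, 2, [649, 2049, 257], 0, 0), (1, 19, [1251, 0, 0, 2049, 0, 0, 2049, 0, 0, 0, 0, 2049, 0, 0, 2049, 0, 0, 0, 0], 1, 324), (0, 2, [1189], 0, 0), (20, 2, [0, 0, 257], 3, 5), (22, 2, [649, 2049, 257], 0, 0), (1, 22, [1185, 0, 0, 2049, 0, 0, 2049, 0, 0, 0, 0, 2049, 0,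 0, 2049, 0, 0, 0, 0, 2049, 0, 0], 1, 324), (0, 2, [1], 0, 0), (23, 2, [0, 0, 257], 3, 5), (25, 2, [], 0, 0), (7, 3, [], 3, 4), (12, 3, [], 3, 4), (17, 3, [], 3, 4), (16, 2, [], 0, 0), (14, 3, [], 3, 4), (13, 2, [], 0, 0), (12, 3, [], 3, 4), (11, 2, [], 0, 0), (9, 3, [], 3, 4), (8, 2, [], 0, 0), (7, 3, [], 3, 4), (6, 2, [], 0, 0), (4, 3, [], 3, 4), (3, 2, [], 0, 0), (1, 3, [], 3, 4)])]),
  (0, 1, .cen false [4, 2049] [1, 2049, 4] [260, 1, 2] [[150, 512]] [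
  (0, 0, .ext K4_7 [4] 64 [(0, 2, [3, 1], 3, 1), (0, 2, [3], 0, 0)] [[(0, 2, [1, 1, 2049, 4], 3, 0), (0, 3, [2049], 0, 0)], [(0, 2, [1671, 4], 1, 512)], [(0, 2, [131, 4], 1, 256)], [(0, 2, [259, 4], 1, 128)], [(0, 2, [515, 4], 1, 64)], [(0, 2, [65, 4], 1, 32)], [(0, 2, [39, 4], 1, 16)], [(0, 2, [21, 4], 1, 8)], [(0, 2, [11, 4], 1, 4)], [(0, 2, [5, 4], 1, 2)], [(0, 2, [3, 4], 1, 1)]] <|
  .goal _ _ _ lf11),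
  (0, 1, .ext K4_8 [4] 64 [(0, 2, [3, 1], 3, 1), (0, 2, [3], 0, 0)] [[(0, 2, [3, 1, 2049, 4], 3, 0), (0, 3, [2051], 0, 0)], [(0, 2, [1671, 4], 1, 512)], [(0, 2, [131, 4], 1, 256)], [(0, 2, [259, 4], 1, 128)], [(0, 2, [515, 4], 1, 64)], [(0, 2, [65, 4], 1, 32)], [(0, 2, [39, 4], 1, 16)], [(0, 2, [21, 4], 1, 8)], [(0, 2, [11, 4], 1, 4)], [(0, 2, [5, 4], 1, 2)], [(0, 2, [3, 4], 1, 1)]] <|
  .goal _ _ _ lf12)])]),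
  (0, 2, .kill 0 1 [4] [(0, 1, [], 0, 0), (1, 0, [257, 257], 0, 0), (0, 2, [5, 1, 257, 4], 3, 0), (3, 2, [5, 1, 257, 4], 3, 0), (0, 6, [3], 0, 0)]),
  (0, 3, .kill 0 1 [4] [(0, 1, [], 0, 0), (1, 0, [257, 257], 0, 0), (0, 2, [7, 1, 257, 4], 3, 0), (3, 2, [7, 1, 257, 4], 3, 0), (0, 6, [3], 0, 0)])]) (by decide +kernel)

theorem g2_66 : Gl.{u} ([K2_66, K1_0] ++ W8)
    [[(512, 512, 834), (256, 256, 512), (64, 64, 64), (32, 32, 32), (16, 16, 10), (8, 8, 6), (4, 4, 18), (2, 2, 3), (1, 1, 2)], [(256, 256, 256), (128, 128, 28), (64, 64, 64), (40, 42, 168), (24, 25, 154), (4, 4, 6), (2, 2, 4), (1, 1, 1)]]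
    [([0, 0, 0], []), ([2, 2, 2], []), ([257, 0], [0, 0, 257]), ([17, 2], [2, 2, 17])] := Gl.of meq8 _ (
  .cen true [1025, 2, 1025, 2, 1025, 2] [] [64, 1] [[172, 128, 256], [2], [2]] [
  (0, 114, .eq [2, 1025, 2] [(3, 0, [1025, 1025], 0, 0), (4, 0, [2, 2, 2], 4, 2), (0, 0, [1025, 1025], 0, 0), (1, 6, [229], 3, 0), (0, 2, [1249], 0, 0)] [1249, 2, 2, 1025] <|
  .eq [2, 17] [(0, 0, [2, 2, 2], 4, 3), (2, 3, [17, 2], 4, 5), (0, 3, [17, 2], 4, 5)] [17, 2, 2] <|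
  .eq [2, 1025, 2, 2, 1025] [(0, 3, [1249, 2, 2, 1025], 3, 1), (3, 1, [1, 1025], 0, 0), (1, 3, [1, 2, 2], 1, 0), (0, 2, [1249], 0, 0), (2, 3, [1249, 2, 2, 1025], 3, 1), (5, 2, [], 0, 0), (2, 1, [225, 1025], 0, 0), (1, 2, [233, 2], 1, 112), (0, 2, [1039], 0, 0)] [1039, 2, 1025, 2, 2] <|
  .eq [2, 1025, 2, 2, 17] [(2, 3, [17, 2], 4, 7), (1, 2, [17, 1025], 0, 0), (0, 2, [17, 2, 2], 3, 1), (3, 1, [1, 1025], 0, 0), (1, 3, [1, 2, 2], 1, 0), (0, 2, [17], 0, 0), (2, 3, [1249, 2, 2, 1025], 3, 2), (2, 1, [225, 1025], 0, 0), (1, 2, [233, 2], 1, 112), (0, 2, [253], 0, 0), (5, 1, [1025, 1], 0, 0), (1, 5, [1039, 2, 1025, 2, 2], 3, 0), (0, 2, [1271], 0, 0), (1, 5, [1, 2, 1025, 2, 2], 1, 0), (0, 2, [1271], 0, 0)] [1271, 2, 1025, 2, 2] <|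
  .ext K3_114 [2, 1025, 2, 2] 64 [(2, 3, [], 3, 6), (1, 2, [1], 0, 0), (0, 2, [1, 2], 1, 0), (1, 3, [], 3, 6)] [[(0, 5, [1039, 2, 1025, 2, 2], 3, 1)], [(0, 5, [523, 2, 1025, 2, 2], 1, 256)], [(0, 5, [907, 2, 1025, 2, 2], 1, 128)], [(0, 5, [137, 2, 1025, 2, 2], 1, 64)], [(4, 1, [85, 17], 0, 0), (0, 5, [735, 2, 1025, 2, 2], 1, 42), (1, 5, [1271, 2, 1025, 2, 2], 3, 0), (0, 2, [1581], 0, 0)], [(4, 1, [51, 17], 0, 0), (0, 5, [697, 2, 1025, 2, 2], 1, 25), (1, 5, [1271, 2, 1025, 2, 2], 3, 0), (0, 2, [1615], 0, 0)], [(0, 5, [1271, 2, 1025, 2, 2], 3, 0)], [(0, 5, [9, 2, 1025, 2, 2], 1, 4)], [(0, 5, [5, 2, 1025, 2, 2], 1, 2)], [(0, 5, [3, 2, 1025, 2, 2], 1, 1)]] <|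
  .goal _ _ _ g3_114),
  (0, 115, .eq [2, 1025, 2] [(3, 0, [1025, 1025], 0, 0), (4, 0, [2, 2, 2], 4, 2), (0, 0, [1025, 1025], 0, 0), (1, 6, [231], 3, 0), (0, 2, [1251], 0, 0)] [1251, 2, 2, 1025] <|
  .eq [2, 17] [(0, 0, [2, 2, 2], 4, 3), (2, 3, [17, 2], 4, 5), (0, 3, [17, 2], 4, 5)] [17, 2, 2] <|
  .eq [2, 1025, 2, 2, 1025] [(0, 3, [1251, 2, 2, 1025], 3, 1), (3, 1, [1, 1025], 0, 0), (1, 3, [1, 2, 2], 1, 0), (0, 2, [1251], 0, 0), (2, 3, [1251, 2, 2, 1025], 3, 1), (5, 2, [], 0, 0), (2, 1, [227, 1025], 0, 0), (1, 2, [235, 2], 1, 113), (0, 2, [1039], 0, 0)] [1039, 2, 1025, 2, 2] <|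
  .eq [2, 1025, 2, 2, 17] [(2, 3, [17, 2], 4, 7), (1, 2, [17, 1025], 0, 0), (0, 2, [17, 2, 2], 3, 1), (3, 1, [1, 1025], 0, 0), (1, 3, [1, 2, 2], 1, 0), (0, 2, [17], 0, 0), (2, 3, [1251, 2, 2, 1025], 3, 2), (2, 1, [227, 1025], 0, 0), (1, 2, [235, 2], 1, 113), (0, 2, [255], 0, 0), (5, 1, [1025, 1], 0, 0), (1, 5, [1039, 2, 1025, 2, 2], 3, 0), (0, 2, [1269], 0, 0), (1, 5, [1, 2, 1025, 2, 2], 1, 0), (0, 2, [1269], 0, 0)] [1269, 2, 1025, 2, 2] <|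
  .ext K3_115 [2, 1025, 2, 2] 64 [(2, 3, [], 3, 6), (1, 2, [1], 0, 0), (0, 2, [1, 2], 1, 0), (1, 3, [], 3, 6)] [[(0, 5, [1039, 2, 1025, 2, 2], 3, 1)], [(0, 5, [523, 2, 1025, 2, 2], 1, 256)], [(0, 5, [907, 2, 1025, 2, 2], 1, 128)], [(0, 5, [137, 2, 1025, 2, 2], 1, 64)], [(4, 1, [85, 17], 0, 0), (0, 5, [735, 2, 1025, 2, 2], 1, 42), (1, 5, [1269, 2, 1025, 2, 2], 3, 0), (0, 2, [1583], 0, 0)], [(4, 1, [51, 17], 0, 0), (0, 5, [697, 2, 1025, 2, 2], 1, 25), (1, 5, [1269, 2, 1025, 2, 2], 3, 0), (0, 2, [1613], 0, 0)], [(0, 5, [1269, 2, 1025, 2, 2], 3, 0)], [(0, 5, [9, 2, 1025, 2, 2], 1, 4)], [(0, 5, [5, 2, 1025, 2, 2], 1, 2)], [(0, 5, [3, 2, 1025, 2, 2], 1, 1)]] <|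
  .goal _ _ _ g3_115)]) (by decide +kernel)

theorem g1_0 : Gl.{u} ([K1_0] ++ W8)
    [[(64, 64, 64), (32, 32, 32), (16, 16, 10), (8, 8, 6), (4, 4, 18), (2, 2, 3), (1, 1, 2)], [(256, 256, 256), (128, 128, 28), (64, 64, 64), (40, 42, 168), (24, 25, 154), (4, 4, 6), (2, 2, 4), (1, 1, 1)]]
    [([0, 0, 0], []), ([2, 2, 2], []), ([257, 0], [0, 0, 257]), ([17, 2], [2, 2, 17])] := Gl.of meq8 _ (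
  .cen false [513, 0, 513, 0, 513, 0] [] [64, 1, 2] [[4, 8]] [
  (0, 0, .eq [0, 513, 0] [(3, 0, [513, 513], 0, 0), (4, 0, [0, 0, 0], 4, 1), (0, 0, [513, 513], 0, 0), (1, 6, [1], 3, 0), (0, 2, [513], 0, 0)] [513, 0, 0, 513] <|
  .eq [0, 257] [(0, 0, [0, 0, 0], 4, 2), (2, 3, [257, 0], 4, 4), (0, 3, [257, 0], 4, 4)] [257, 0, 0] <|
  .eq [0, 513, 0, 0, 513] [(0, 3, [513, 0, 0, 513], 3, 1), (3, 1, [1, 513], 0, 0), (1, 3, [1, 0, 0], 1, 0), (0, 2, [513], 0, 0), (2, 3, [513, 0, 0, 513], 3, 1), (5, 2, [], 0, 0), (2, 1, [1, 513], 0, 0), (1, 2, [1, 0], 1, 0), (0, 2, [513], 0, 0)] [513, 0, 513, 0, 0] <|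
  .eq [0, 513, 0, 0, 257] [(2, 3, [257, 0], 4, 6), (1, 2, [257, 513], 0, 0), (0, 2, [257, 0, 0], 3, 1), (3, 1, [1, 513], 0, 0), (1, 3, [1, 0, 0], 1, 0), (0, 2, [257], 0, 0), (2, 3, [513, 0, 0, 513], 3, 2), (2, 1, [1, 513], 0, 0), (1, 2, [1, 0], 1, 0), (0, 2, [257], 0, 0), (5, 1, [513, 1], 0, 0), (1, 5, [513, 0, 513, 0, 0], 3, 0), (0, 2, [769], 0, 0), (1, 5, [1, 0, 513, 0, 0], 1, 0), (0, 2, [769], 0, 0)] [769, 0, 513, 0, 0] <|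
  .ext K2_0 [0, 513, 0, 0] 64 [(2, 3, [], 3, 5), (1, 2, [1], 0, 0), (0, 2, [1, 0], 1, 0), (1, 3, [], 3, 5)] [[(0, 5, [513, 0, 513, 0, 0], 3, 1)], [(0, 5, [769, 0, 513, 0, 0], 3, 0)], [(0, 5, [133, 0, 513, 0, 0], 1, 64)], [(0, 5, [65, 0, 513, 0, 0], 1, 32)], [(0, 5, [33, 0, 513, 0, 0], 1, 16)], [(0, 5, [17, 0, 513, 0, 0], 1, 8)], [(0, 5, [9, 0, 513, 0, 0], 1, 4)], [(0, 5, [5, 0, 513, 0, 0], 1, 2)], [(0, 5, [3, 0, 513, 0, 0], 1, 1)]] <|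
  .tab 0 [((512, 512, 768), [(1, 1, [0, 513, 0, 0], 3, 0), (1, 3, [513, 0, 0, 513], 3, 4), (1, 1, [1, 513], 0, 0), (0, 2, [1, 0], 1, 0), (1, 4, [1025], 4, 0), (0, 3, [1537], 0, 0)]), ((256, 256, 512), [(2, 0, [0, 0, 0], 4, 6), (0, 4, [1025], 4, 0)])] <|
  .goal _ _ _ g2_0),
  (0, 1, .kill 257 258 [0] [(0, 1, [3, 513], 0, 0), (0, 1, [513, 0, 513, 0, 513, 0], 4, 0), (2, 6, [3], 3, 0), (1, 2, [5, 0], 1, 1), (0, 2, [517], 0, 0)]),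
  (0, 2, .kill 258 259 [0] [(0, 1, [5, 513], 0, 0), (0, 1, [513, 0, 513, 0, 513, 0], 4, 0), (2, 6, [5], 3, 0), (1, 2, [7, 0], 1, 2), (0, 2, [519], 0, 0)]),
  (0, 3, .kill 259 257 [0] [(0, 1, [7, 513], 0, 0), (0, 1, [513, 0, 513, 0, 513, 0], 4, 0), (2, 6, [7], 3, 0), (1, 2, [3, 0], 1, 3), (0, 2, [515], 0, 0)]),
  (0, 64, .kill 320 321 [0] [(0, 1, [129, 513], 0, 0), (0, 1, [513, 0, 513, 0, 513, 0], 4, 0), (2, 6, [129], 3, 0), (1, 2, [129, 0], 1, 64), (0, 2, [643], 0, 0)]),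
  (0, 65, .kill 321 323 [0] [(0, 1, [131, 513], 0, 0), (0, 1, [513, 0, 513, 0, 513, 0], 4, 0), (2, 6, [131], 3, 0), (1, 2, [133, 0], 1, 65), (0, 2, [647], 0, 0)]),
  (0, 66, .eq [0, 513, 0] [(3, 0, [513, 513], 0, 0), (4, 0, [0, 0, 0], 4, 1), (0, 0, [513, 513], 0, 0), (1, 6, [133], 3, 0), (0, 2, [647], 0, 0)] [647, 0, 0, 513] <|
  .eq [0, 257] [(0, 0, [0, 0, 0], 4, 2), (2, 3, [257, 0], 4, 4), (0, 3, [257, 0], 4, 4)] [257, 0, 0] <|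
  .eq [0, 513, 0, 0, 513] [(0, 3, [647, 0, 0, 513], 3, 1), (3, 1, [1, 513], 0, 0), (1, 3, [1, 0, 0], 1, 0), (0, 2, [647], 0, 0), (2, 3, [647, 0, 0, 513], 3, 1), (5, 2, [], 0, 0), (2, 1, [135, 513], 0, 0), (1, 2, [131, 0], 1, 67), (0, 2, [519], 0, 0)] [519, 0, 513, 0, 0] <|
  .eq [0, 513, 0, 0, 257] [(2, 3, [257, 0], 4, 6), (1, 2, [257, 513], 0, 0), (0, 2, [257, 0, 0], 3, 1), (3, 1, [1, 513], 0, 0), (1, 3, [1, 0, 0], 1, 0), (0, 2, [257], 0, 0), (2, 3, [647, 0, 0, 513], 3, 2), (2, 1, [135, 513], 0, 0), (1, 2, [131, 0], 1, 67), (0, 2, [387], 0, 0), (5, 1, [513, 1], 0, 0), (1, 5, [519, 0, 513, 0, 0], 3, 0), (0, 2, [903], 0, 0), (1, 5, [1, 0, 513, 0, 0], 1, 0), (0, 2, [903], 0, 0)] [903, 0, 513, 0, 0] <|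
  .ext K2_66 [0, 513, 0, 0] 64 [(2, 3, [], 3, 5), (1, 2, [1], 0, 0), (0, 2, [1, 0], 1, 0), (1, 3, [], 3, 5)] [[(0, 5, [519, 0, 513, 0, 0], 3, 1)], [(0, 5, [903, 0, 513, 0, 0], 3, 0)], [(0, 5, [133, 0, 513, 0, 0], 1, 64)], [(0, 5, [65, 0, 513, 0, 0], 1, 32)], [(0, 5, [33, 0, 513, 0, 0], 1, 16)], [(0, 5, [17, 0, 513, 0, 0], 1, 8)], [(0, 5, [9, 0, 513, 0, 0], 1, 4)], [(0, 5, [5, 0, 513, 0, 0], 1, 2)], [(0, 5, [3, 0, 513, 0, 0], 1, 1)]] <|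
  .tab 0 [((512, 512, 834), [(1, 1, [0, 513, 0, 0], 3, 0), (1, 3, [647, 0, 0, 513], 3, 4), (1, 1, [135, 513], 0, 0), (0, 2, [131, 0], 1, 67), (1, 4, [1025], 4, 0), (0, 3, [1669], 0, 0)]), ((256, 256, 512), [(2, 0, [0, 0, 0], 4, 6), (0, 4, [1025], 4, 0)])] <|
  .goal _ _ _ g2_66),
  (0, 67, .kill 323 320 [0] [(0, 1, [135, 513], 0, 0), (0, 1, [513, 0, 513, 0, 513, 0], 4, 0), (2, 6, [135], 3, 0), (1, 2, [131, 0], 1, 67), (0, 2, [641], 0, 0)])]) (by decide +kernel)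

theorem g2_28 : Gl.{u} ([K2_28, K1_1] ++ W8)
    [[(512, 512, 796), (256, 256, 512), (64, 64, 64), (32, 32, 32), (16, 16, 10), (8, 8, 6), (4, 4, 18), (2, 2, 3), (1, 1, 2)], [(256, 256, 256), (128, 128, 28), (64, 64, 64), (40, 42, 168), (24, 25, 154), (4, 4, 6), (2, 2, 4), (1, 1, 1)]]
    [([0, 0, 0], []), ([2, 2, 2], []), ([257, 0], [0, 0, 257]), ([17, 2], [2, 2, 17])] := Gl.of meq8 _ (
  .cen true [1025, 2, 1025, 2, 2, 1025] [] [64, 1] [[2], [4], [42, 28]] [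
  ]) (by decide +kernel)

theorem g2_94 : Gl.{u} ([K2_94, K1_1] ++ W8)
    [[(512, 512, 862), (256, 256, 512), (64, 64, 64), (32, 32, 32), (16, 16, 10), (8, 8, 6), (4, 4, 18), (2, 2, 3), (1, 1, 2)], [(256, 256, 256), (128, 128, 28), (64, 64, 64), (40, 42, 168), (24, 25, 154), (4, 4, 6), (2, 2, 4), (1, 1, 1)]]
    [([0, 0, 0], []), ([2, 2, 2], []), ([257, 0], [0, 0, 257]), ([17, 2], [2, 2, 17])] := Gl.of meq8 _ (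
  .cen true [1025, 2, 1025, 2, 2, 1025] [] [64, 1] [[2], [4], [42, 28]] [
  ]) (by decide +kernel)

theorem g1_1 : Gl.{u} ([K1_1] ++ W8)
    [[(64, 64, 64), (32, 32, 32), (16, 16, 10), (8, 8, 6), (4, 4, 18), (2, 2, 3), (1, 1, 2)], [(256, 256, 256), (128, 128, 28), (64, 64, 64), (40, 42, 168), (24, 25, 154), (4, 4, 6), (2, 2, 4), (1, 1, 1)]]
    [([0, 0, 0], []), ([2, 2, 2], []), ([257, 0], [0, 0, 257]), ([17, 2], [2, 2, 17])] := Gl.of meq8 _ (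
  .cen false [513, 0, 513, 0, 513, 0] [] [64, 1, 2] [[4, 8]] [
  (0, 28, .eq [0, 513, 0] [(3, 0, [513, 513], 0, 0), (4, 0, [0, 0, 0], 4, 1), (0, 0, [513, 513], 0, 0), (1, 6, [57], 3, 0), (0, 2, [569], 0, 0)] [569, 0, 0, 513] <|
  .eq [0, 257] [(0, 0, [0, 0, 0], 4, 2), (2, 3, [257, 0], 4, 4), (0, 3, [257, 0], 4, 4)] [257, 0, 0] <|
  .eq [0, 513, 0, 0, 513] [(0, 3, [569, 0, 0, 513], 3, 1), (3, 1, [1, 513], 0, 0), (1, 3, [1, 0, 0], 1, 0), (0, 2, [569], 0, 0), (2, 3, [569, 0, 0, 513], 3, 1), (5, 2, [], 0, 0), (2, 1, [57, 513], 0, 0), (1, 2, [57, 0], 1, 28), (0, 2, [513], 0, 0)] [513, 0, 513, 0, 0] <|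
  .eq [0, 513, 0, 0, 257] [(2, 3, [257, 0], 4, 6), (1, 2, [257, 513], 0, 0), (0, 2, [257, 0, 0], 3, 1), (3, 1, [1, 513], 0, 0), (1, 3, [1, 0, 0], 1, 0), (0, 2, [257], 0, 0), (2, 3, [569, 0, 0, 513], 3, 2), (2, 1, [57, 513], 0, 0), (1, 2, [57, 0], 1, 28), (0, 2, [313], 0, 0), (5, 1, [513, 1], 0, 0), (1, 5, [513, 0, 513, 0, 0], 3, 0), (0, 2, [825], 0, 0), (1, 5, [1, 0, 513, 0, 0], 1, 0), (0, 2, [825], 0, 0)] [825, 0, 513, 0, 0] <|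
  .ext K2_28 [0, 513, 0, 0] 64 [(2, 3, [], 3, 5), (1, 2, [1], 0, 0), (0, 2, [1, 0], 1, 0), (1, 3, [], 3, 5)] [[(0, 5, [513, 0, 513, 0, 0], 3, 1)], [(0, 5, [825, 0, 513, 0, 0], 3, 0)], [(0, 5, [133, 0, 513, 0, 0], 1, 64)], [(0, 5, [69, 0, 513, 0, 0], 1, 32)], [(0, 5, [33, 0, 513, 0, 0], 1, 16)], [(0, 5, [21, 0, 513, 0, 0], 1, 8)], [(0, 5, [13, 0, 513, 0, 0], 1, 4)], [(0, 5, [5, 0, 513, 0, 0], 1, 2)], [(0, 5, [3, 0, 513, 0, 0], 1, 1)]] <|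
  .tab 0 [((512, 512, 796), [(1, 1, [0, 513, 0, 0], 3, 0), (1, 3, [569, 0, 0, 513], 3, 4), (1, 1, [57, 513], 0, 0), (0, 2, [57, 0], 1, 28), (1, 4, [1025], 4, 0), (0, 3, [1593], 0, 0)]), ((256, 256, 512), [(2, 0, [0, 0, 0], 4, 6), (0, 4, [1025], 4, 0)])] <|
  .goal _ _ _ g2_28),
  (0, 29, .kill 285 286 [0] [(0, 1, [59, 513], 0, 0), (0, 1, [513, 0, 513, 0, 513, 0], 4, 0), (2, 6, [59], 3, 0), (1, 2, [61, 0], 1, 29), (0, 2, [573], 0, 0)]),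
  (0, 30, .kill 286 287 [0] [(0, 1, [61, 513], 0, 0), (0, 1, [513, 0, 513, 0, 513, 0], 4, 0), (2, 6, [61], 3, 0), (1, 2, [63, 0], 1, 30), (0, 2, [575], 0, 0)]),
  (0, 31, .kill 287 285 [0] [(0, 1, [63, 513], 0, 0), (0, 1, [513, 0, 513, 0, 513, 0], 4, 0), (2, 6, [63], 3, 0), (1, 2, [59, 0], 1, 31), (0, 2, [571], 0, 0)]),
  (0, 92, .kill 348 349 [0] [(0, 1, [185, 513], 0, 0), (0, 1, [513, 0, 513, 0, 513, 0], 4, 0), (2, 6, [185], 3, 0), (1, 2, [185, 0], 1, 92), (0, 2, [699], 0, 0)]),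
  (0, 93, .kill 349 351 [0] [(0, 1, [187, 513], 0, 0), (0, 1, [513, 0, 513, 0, 513, 0], 4, 0), (2, 6, [187], 3, 0), (1, 2, [189, 0], 1, 93), (0, 2, [703], 0, 0)]),
  (0, 94, .eq [0, 513, 0] [(3, 0, [513, 513], 0, 0), (4, 0, [0, 0, 0], 4, 1), (0, 0, [513, 513], 0, 0), (1, 6, [189], 3, 0), (0, 2, [703], 0, 0)] [703, 0, 0, 513] <|
  .eq [0, 257] [(0, 0, [0, 0, 0], 4, 2), (2, 3, [257, 0], 4, 4), (0, 3, [257, 0], 4, 4)] [257, 0, 0] <|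
  .eq [0, 513, 0, 0, 513] [(0, 3, [703, 0, 0, 513], 3, 1), (3, 1, [1, 513], 0, 0), (1, 3, [1, 0, 0], 1, 0), (0, 2, [703], 0, 0), (2, 3, [703, 0, 0, 513], 3, 1), (5, 2, [], 0, 0), (2, 1, [191, 513], 0, 0), (1, 2, [187, 0], 1, 95), (0, 2, [519], 0, 0)] [519, 0, 513, 0, 0] <|
  .eq [0, 513, 0, 0, 257] [(2, 3, [257, 0], 4, 6), (1, 2, [257, 513], 0, 0), (0, 2, [257, 0, 0], 3, 1), (3, 1, [1, 513], 0, 0), (1, 3, [1, 0, 0], 1, 0), (0, 2, [257], 0, 0), (2, 3, [703, 0, 0, 513], 3, 2), (2, 1, [191, 513], 0, 0), (1, 2, [187, 0], 1, 95), (0, 2, [443], 0, 0), (5, 1, [513, 1], 0, 0), (1, 5, [519, 0, 513, 0, 0], 3, 0), (0, 2, [959], 0, 0), (1, 5, [1, 0, 513, 0, 0], 1, 0), (0, 2, [959], 0, 0)] [959, 0, 513, 0, 0] <|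
  .ext K2_94 [0, 513, 0, 0] 64 [(2, 3, [], 3, 5), (1, 2, [1], 0, 0), (0, 2, [1, 0], 1, 0), (1, 3, [], 3, 5)] [[(0, 5, [519, 0, 513, 0, 0], 3, 1)], [(0, 5, [959, 0, 513, 0, 0], 3, 0)], [(0, 5, [133, 0, 513, 0, 0], 1, 64)], [(0, 5, [69, 0, 513, 0, 0], 1, 32)], [(0, 5, [33, 0, 513, 0, 0], 1, 16)], [(0, 5, [21, 0, 513, 0, 0], 1, 8)], [(0, 5, [13, 0, 513, 0, 0], 1, 4)], [(0, 5, [5, 0, 513, 0, 0], 1, 2)], [(0, 5, [3, 0, 513, 0, 0], 1, 1)]] <|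
  .tab 0 [((512, 512, 862), [(1, 1, [0, 513, 0, 0], 3, 0), (1, 3, [703, 0, 0, 513], 3, 4), (1, 1, [191, 513], 0, 0), (0, 2, [187, 0], 1, 95), (1, 4, [1025], 4, 0), (0, 3, [1725], 0, 0)]), ((256, 256, 512), [(2, 0, [0, 0, 0], 4, 6), (0, 4, [1025], 4, 0)])] <|
  .goal _ _ _ g2_94),
  (0, 95, .kill 351 348 [0] [(0, 1, [191, 513], 0, 0), (0, 1, [513, 0, 513, 0, 513, 0], 4, 0), (2, 6, [191], 3, 0), (1, 2, [187, 0], 1, 95), (0, 2, [697], 0, 0)])]) (by decide +kernel)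

end CF.M12S
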